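import Groth.Agent.SiteBase.DerivedExt

/-! A natural family of classes gives a map of presheaves of Ext groups. -/

set_option autoImplicit false

universe u v w

open CategoryTheory Opposite Abelian

noncomputable section

namespace Groth.Agent.LocZ95

variable {C : Type u} [SmallCategory C] {A : Type v} [Category.{w} A] [Abelian A] [HasExt.{u} A]
  (P Q : C ⥤ A)

theorem extPsh_map_app (n : ℕ) {F F' : A} (g : F ⟶ F') (V : Cᵒᵖ) (z : Ext (P.obj V.unop) F n) :
    (((SiteBase.HomPres.extPsh P n).map g).app V).hom z = z.comp (Ext.mk₀ g) (add_zero n) := rfl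

theorem extPsh_obj_map (n : ℕ) (F : A) {V V' : Cᵒᵖ} (g : V ⟶ V') (z : Ext (P.obj V.unop) F n) :
    (((SiteBase.HomPres.extPsh P n).obj F).map g).hom z = (Ext.mk₀ (P.map g.unop)).comp z (zero_add n) := rfl

variable (d : ∀ V, Ext (P.obj V) (Q.obj V) 1)
  (hd : ∀ {V W : C} (f : V ⟶ W),
    (d V).comp (Ext.mk₀ (Q.map f)) (add_zero 1) = (Ext.mk₀ (P.map f)).comp (d W) (zero_add 1))

/-- Composition with a natural family of classes in degree one. -/
def classNat (i : ℕ) : SiteBase.HomPres.extPsh Q i ⟶ SiteBase.HomPres.extPsh P (i + 1) where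
  app F :=
    { app := fun V => AddCommGrpCat.ofHom ((d V.unop).precomp F (show 1 + i = i + 1 by omega))
      naturality := fun V V' g => by
        ext (z : Ext (Q.obj V.unop) F i)
        show (d V'.unop).comp ((Ext.mk₀ (Q.map g.unop)).comp z (zero_add i)) (show 1 + i = i + 1 by omega) =
          (Ext.mk₀ (P.map g.unop)).comp ((d V.unop).comp z (show 1 + i = i + 1 by omega)) (zero_add (i + 1))
        rw [← Ext.comp_assoc_of_second_deg_zero, hd,
          Ext.comp_assoc (Ext.mk₀ (P.map g.unop)) (d V.unop) z (zero_add 1)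
            (show 1 + i = i + 1 by omega) (show 0 + 1 + i = i + 1 by omega)] }
  naturality F F' g := by
    ext V (z : Ext (Q.obj V.unop) F i)
    show (d V.unop).comp (z.comp (Ext.mk₀ g) (add_zero i)) (show 1 + i = i + 1 by omega) =
      ((d V.unop).comp z (show 1 + i = i + 1 by omega)).comp (Ext.mk₀ g) (add_zero (i + 1))
    exact (Ext.comp_assoc_of_third_deg_zero _ _ _ _).symm

theorem classNat_apply (i : ℕ) (F : A) (V : Cᵒᵖ) (z : Ext (Q.obj V.unop) F i) :
    (((classNat P Q d hd i).app F).app V).hom z = (d V.unop).comp z (show 1 + i = i + 1 by omega) := rfl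

/-- Degree zero classes of sections. -/
def presExt0 {G : A ⥤ Cᵒᵖ ⥤ AddCommGrpCat.{u}} (h : SiteBase.HomPres P G) :
    G ⟶ SiteBase.HomPres.extPsh P 0 where
  app F :=
    { app := fun V => AddCommGrpCat.ofHom (Ext.addEquiv₀.symm.toAddMonoidHom.comp (h.σ F V.unop).symm.toAddMonoidHom)
      naturality := fun V V' g => by
        ext (s : (G.obj F).obj V)
        show Ext.mk₀ ((h.σ F V'.unop).symm (((G.obj F).map g).hom s)) =
          (Ext.mk₀ (P.map g.unop)).comp (Ext.mk₀ ((h.σ F V.unop).symm s)) (zero_add 0)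
        rw [Ext.mk₀_comp_mk₀]
        congr 1
        apply (h.σ F V'.unop).injective
        rw [AddEquiv.apply_symm_apply, h.σ_map, AddEquiv.apply_symm_apply]
        rfl }
  naturality F F' f := by
    ext V (s : (G.obj F).obj V)
    show Ext.mk₀ ((h.σ F' V.unop).symm (((G.map f).app V).hom s)) =
      (Ext.mk₀ ((h.σ F V.unop).symm s)).comp (Ext.mk₀ f) (add_zero 0)
    rw [Ext.mk₀_comp_mk₀]
    congr 1
    apply (h.σ F' V.unop).injective
    rw [AddEquiv.apply_symm_apply, h.σ_comp, AddEquiv.apply_symm_apply]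

theorem assoc_five {D : Type*} [Category D] {a b c d e f g : D} {p : a ⟶ b} {q : b ⟶ c} {r : c ⟶ d}
    {s : d ⟶ e} {t : e ⟶ f} {pq : a ⟶ c} {w : a ⟶ g} {m : g ⟶ d} {n : g ⟶ e}
    (h₁ : p ≫ q = pq) (h₂ : pq ≫ r = w ≫ m) (h₃ : m ≫ s = n) :
    p ≫ q ≫ r ≫ s ≫ t = w ≫ n ≫ t := by
  rw [reassoc_of% h₁, reassoc_of% h₂, reassoc_of% h₃]

/-- Cokernels of units of isomorphic functors. -/
def cokernelUnitIso {D : Type*} [Category D] [Limits.HasZeroMorphisms D] {E : Type*} [Category E]
    {L L' : D ⥤ E} {R : E ⥤ D} (e : L ≅ L') (η : 𝟭 D ⟶ L ⋙ R) (η' : 𝟭 D ⟶ L' ⋙ R)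
    [Limits.HasCokernel η] [Limits.HasCokernel η']
    (h : ∀ F, η.app F ≫ R.map (e.hom.app F) = η'.app F) : Limits.cokernel η' ≅ Limits.cokernel η :=
  Limits.cokernel.mapIso η' η (Iso.refl _) (Functor.isoWhiskerRight e.symm R) (by
    ext F : 2
    show η'.app F ≫ R.map (e.inv.app F) = 𝟙 _ ≫ η.app F
    rw [← h F, Category.assoc, ← R.map_comp, Iso.hom_inv_id_app, R.map_id]
    exact (Category.comp_id _).trans (Category.id_comp _).symm)

end Groth.Agent.LocZ95

end
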