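import Groth.Prelude.Def_LocCohZ
import Groth.Prelude.Def_CohTop
import Mathlib.Topology.Sheaves.MayerVietoris
import Mathlib.CategoryTheory.Sites.SheafCohomology.MayerVietoris
import Mathlib.CategoryTheory.Abelian.Refinements
import Mathlib.Algebra.Homology.DerivedCategory.Ext.ExactSequences
import Mathlib.Algebra.Homology.ShortComplex.ShortExact

/-! Mayer–Vietoris for cohomology with supports. -/

set_option autoImplicit false
set_option maxHeartbeats 200000
set_option linter.style.haveILetI false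

universe w v u

open CategoryTheory CategoryTheory.Limits Opposite TopologicalSpace Abelian

noncomputable section

namespace Groth.Agent.LocZ95.MV

section Generic

variable {C : Type u} [Category.{v} C] [Abelian C] {A B B' D T : C} (i : A ⟶ B) (i' : A ⟶ B') (j : B ⟶ D)
  (j' : B' ⟶ D) (a : A ⟶ T) (b : B ⟶ T) (b' : B' ⟶ T) (d : D ⟶ T)
  (hib : i ≫ b = a) (hib' : i' ≫ b' = a) (hjd : j ≫ d = b) (hjd' : j' ≫ d = b')

/-- The sequence of quotients. -/
def quotSeq : ShortComplex C :=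
  ShortComplex.mk
    (biprod.lift (cokernel.map a b i (𝟙 T) (by rw [Category.comp_id, hib]))
      (-cokernel.map a b' i' (𝟙 T) (by rw [Category.comp_id, hib'])))
    (biprod.desc (cokernel.map b d j (𝟙 T) (by rw [Category.comp_id, hjd]))
      (cokernel.map b' d j' (𝟙 T) (by rw [Category.comp_id, hjd'])))
    (by
      rw [biprod.lift_desc]
      apply coequalizer.hom_ext
      simp)

theorem quotSeq_shortExact [Mono d] (S : (ShortComplex.mk (biprod.lift i (-i')) (biprod.desc j j') (by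
      rw [biprod.lift_desc, Preadditive.neg_comp, ← sub_eq_add_neg, sub_eq_zero]
      have := hib.trans hib'.symm
      rw [← hjd, ← hjd', ← Category.assoc, ← Category.assoc] at this
      exact (cancel_mono d).1 this)).ShortExact) : (quotSeq i i' j j' a b b' d hib hib' hjd hjd').ShortExact := by
  have hf1 : cokernel.π a ≫ (quotSeq i i' j j' a b b' d hib hib' hjd hjd').f ≫ biprod.fst = cokernel.π b := by
    simp [quotSeq]
  have hf2 : cokernel.π a ≫ (quotSeq i i' j j' a b b' d hib hib' hjd hjd').f ≫ biprod.snd = -cokernel.π b' := by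
    simp [quotSeq]
  refine
    { exact := ?_
      mono_f := ?_
      epi_g := ?_ }
  · rw [ShortComplex.exact_iff_exact_up_to_refinements]
    intro W (z : W ⟶ cokernel b ⊞ cokernel b') hz
    obtain ⟨W₁, p₁, _, y, hy⟩ := surjective_up_to_refinements_of_epi (cokernel.π b) (z ≫ biprod.fst)
    obtain ⟨W₂, p₂, _, y', hy'⟩ := surjective_up_to_refinements_of_epi (cokernel.π b') (p₁ ≫ z ≫ biprod.snd)
    have hsum : ((p₂ ≫ y) + y') ≫ cokernel.π d = 0 := by
      have h1 : z = (z ≫ biprod.fst) ≫ biprod.inl + (z ≫ biprod.snd) ≫ biprod.inr := by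
        rw [Category.assoc, Category.assoc, ← Preadditive.comp_add, biprod.total]
        exact (Category.comp_id z).symm
      have h2 := congrArg (fun t => p₂ ≫ p₁ ≫ t) hz
      simp only [comp_zero] at h2
      rw [h1] at h2
      simp only [Preadditive.add_comp, Preadditive.comp_add, quotSeq, Category.assoc,
        biprod.inl_desc, biprod.inr_desc] at h2
      rw [reassoc_of% hy, reassoc_of% hy'] at h2
      simp only [cokernel.π_desc, Category.id_comp] at h2
      rw [Preadditive.add_comp, Category.assoc]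
      exact h2
    obtain ⟨W₃, p₃, _, w, hw⟩ :=
      (ShortComplex.exact_of_g_is_cokernel (ShortComplex.mk d (cokernel.π d) (cokernel.condition d))
        (cokernelIsCokernel d)).exact_up_to_refinements _ hsum
    haveI : Epi (biprod.desc j j') := S.epi_g
    obtain ⟨W₄, p₄, _, q, hq⟩ := surjective_up_to_refinements_of_epi (biprod.desc j j') w
    refine ⟨W₄, p₄ ≫ p₃ ≫ p₂ ≫ p₁, inferInstance,
      (p₄ ≫ p₃ ≫ p₂ ≫ y - (q ≫ biprod.fst) ≫ b) ≫ cokernel.π a, ?_⟩
    have key : p₄ ≫ p₃ ≫ (p₂ ≫ y + y') = (q ≫ biprod.fst) ≫ b + (q ≫ biprod.snd) ≫ b' := by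
      show p₄ ≫ p₃ ≫ (p₂ ≫ y + y') = _
      rw [hw, reassoc_of% hq]
      conv_rhs => rw [← hjd, ← hjd']
      simp only [Category.assoc]
      rw [biprod.desc_eq, Preadditive.add_comp, Preadditive.comp_add]
      simp only [Category.assoc]
    dsimp [quotSeq] at hf1 hf2 ⊢
    apply biprod.hom_ext
    · simp only [Category.assoc]
      rw [hy, hf1, Preadditive.sub_comp]
      simp only [Category.assoc, cokernel.condition, comp_zero, sub_zero]
    · simp only [Category.assoc]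
      rw [hy', hf2, Preadditive.comp_neg, ← Preadditive.neg_comp, neg_sub]
      have h3 : (q ≫ biprod.fst) ≫ b - p₄ ≫ p₃ ≫ p₂ ≫ y = p₄ ≫ p₃ ≫ y' - (q ≫ biprod.snd) ≫ b' := by
        have := key
        simp only [Preadditive.comp_add] at this
        rw [sub_eq_sub_iff_add_eq_add, ← this]
        abel
      rw [Category.assoc] at h3
      rw [h3, Preadditive.sub_comp]
      simp only [Category.assoc, cokernel.condition, comp_zero, sub_zero]
  · apply Preadditive.mono_of_cancel_zero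
    intro W (x : W ⟶ cokernel a) hx
    change x = (0 : W ⟶ cokernel a)
    dsimp [quotSeq] at hx hf1 hf2
    change x ≫ biprod.lift _ _ = (0 : W ⟶ cokernel b ⊞ cokernel b') at hx
    obtain ⟨W₁, p₁, _, y, hy⟩ := surjective_up_to_refinements_of_epi (cokernel.π a) x
    rw [← cancel_epi p₁, comp_zero, hy]
    have hb : y ≫ cokernel.π b = 0 := by
      rw [← hf1, ← Category.assoc, ← hy, Category.assoc, reassoc_of% hx, zero_comp, comp_zero]
    have hb' : y ≫ cokernel.π b' = 0 := by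
      rw [← neg_eq_zero, ← Preadditive.comp_neg, ← hf2, ← Category.assoc, ← hy, Category.assoc,
        reassoc_of% hx, zero_comp, comp_zero]
    obtain ⟨W₂, p₂, _, p, hp⟩ :=
      (ShortComplex.exact_of_g_is_cokernel (ShortComplex.mk b (cokernel.π b) (cokernel.condition b))
        (cokernelIsCokernel b)).exact_up_to_refinements y hb
    obtain ⟨W₃, p₃, _, p', hp'⟩ :=
      (ShortComplex.exact_of_g_is_cokernel (ShortComplex.mk b' (cokernel.π b') (cokernel.condition b'))
        (cokernelIsCokernel b')).exact_up_to_refinements (p₂ ≫ y) (by rw [Category.assoc, hb', comp_zero])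
    have hzero : biprod.lift (p₃ ≫ p) (-p') ≫ biprod.desc j j' = 0 := by
      rw [← cancel_mono d, zero_comp, biprod.lift_desc, Preadditive.add_comp, Category.assoc, Category.assoc,
        Category.assoc, hjd, hjd', Preadditive.neg_comp]
      change p₂ ≫ y = p ≫ b at hp
      change p₃ ≫ p₂ ≫ y = p' ≫ b' at hp'
      rw [← hp, hp', add_neg_cancel]
    obtain ⟨W₄, p₄, _, q, hq⟩ := S.exact.exact_up_to_refinements _ hzero
    have hq' := congrArg (fun t => t ≫ biprod.fst) hq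
    simp only [Category.assoc, biprod.lift_fst] at hq'
    rw [← cancel_epi (p₄ ≫ p₃ ≫ p₂), comp_zero]
    change p₂ ≫ y = p ≫ b at hp
    simp only [Category.assoc]
    rw [reassoc_of% hp, reassoc_of% hq', reassoc_of% hib, cokernel.condition, comp_zero]
  · have : Epi (biprod.inl ≫ (quotSeq i i' j j' a b b' d hib hib' hjd hjd').g) := by
      have he : Epi (cokernel.π b ≫ biprod.inl ≫ (quotSeq i i' j j' a b b' d hib hib' hjd hjd').g) := by
        have e : cokernel.π b ≫ biprod.inl ≫ (quotSeq i i' j j' a b b' d hib hib' hjd hjd').g = cokernel.π d := by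
          simp [quotSeq]
        rw [e]; exact inferInstanceAs (Epi (cokernel.π d))
      exact epi_of_epi (cokernel.π b) _
    exact epi_of_epi biprod.inl _

theorem ses_of_eq (hS : (quotSeq i i' j j' a b b' d hib hib' hjd hjd').ShortExact)
    (p : cokernel a ⟶ cokernel b) (p' : cokernel a ⟶ cokernel b') (q : cokernel b ⟶ cokernel d)
    (q' : cokernel b' ⟶ cokernel d)
    (hp : p = cokernel.map a b i (𝟙 T) (by rw [Category.comp_id, hib]))
    (hp' : p' = cokernel.map a b' i' (𝟙 T) (by rw [Category.comp_id, hib']))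
    (hq : q = cokernel.map b d j (𝟙 T) (by rw [Category.comp_id, hjd]))
    (hq' : q' = cokernel.map b' d j' (𝟙 T) (by rw [Category.comp_id, hjd'])) :
    ∃ wz, (ShortComplex.mk (biprod.lift p (-p')) (biprod.desc q q') wz).ShortExact := by
  subst hp hp' hq hq'
  exact ⟨(quotSeq i i' j j' a b b' d hib hib' hjd hjd').zero, hS⟩

end Generic

variable {X : TopCat.{u}}

local notation "JX" => Opens.grothendieckTopology X

/-- The inclusion of supports. -/
abbrev zmap {W W' : Opens X} (h : W' ≤ W) :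
    LocCohZ.zq (le_top : W' ≤ ⊤) ⟶ LocCohZ.zq (le_top : W ≤ ⊤) :=
  LocCohZ.zqMap le_top le_top h le_rfl

theorem freeSheafMap_id (V : Opens X) : CohCx.freeSheafMap JX (𝟙 V) = 𝟙 _ := by
  simp [CohCx.freeSheafMap]

theorem zmap_eq {W W' : Opens X} (h : W' ≤ W) (w) :
    zmap h = cokernel.map (CohCx.freeSheafMap JX (homOfLE (le_top : W' ≤ ⊤)))
      (CohCx.freeSheafMap JX (homOfLE (le_top : W ≤ ⊤))) (CohCx.freeSheafMap JX (homOfLE h)) (𝟙 _) w := by
  apply coequalizer.hom_ext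
  simp [zmap, LocCohZ.zqMap, freeSheafMap_id]

/-- The long exact sequence of `Ext` of a Mayer–Vietoris extension. -/
theorem extSeq {C : Type u} [Category.{v} C] [Abelian C] [HasExt.{w} C] {A B B' D F : C}
    (p : A ⟶ B) (p' : A ⟶ B') (q : B ⟶ D) (q' : B' ⟶ D) (wz : biprod.lift p (-p') ≫ biprod.desc q q' = 0)
    (hS : (ShortComplex.mk (biprod.lift p (-p')) (biprod.desc q q') wz).ShortExact) :
    Function.Injective (fun x : Ext D F 0 =>
      ((Ext.mk₀ q).comp x (zero_add 0), (Ext.mk₀ q').comp x (zero_add 0))) ∧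
    ∃ δ : ∀ i : ℕ, Ext A F i →+ Ext D F (i + 1),
      ∀ i : ℕ,
        (∀ y : Ext B F i × Ext B' F i,
          (Ext.mk₀ p).comp y.1 (zero_add i) - (Ext.mk₀ p').comp y.2 (zero_add i) = 0 ↔
            ∃ x : Ext D F i, (Ext.mk₀ q).comp x (zero_add i) = y.1 ∧ (Ext.mk₀ q').comp x (zero_add i) = y.2) ∧
        (∀ z : Ext A F i, δ i z = 0 ↔ ∃ y : Ext B F i × Ext B' F i,
            (Ext.mk₀ p).comp y.1 (zero_add i) - (Ext.mk₀ p').comp y.2 (zero_add i) = z) ∧
        (∀ x : Ext D F (i + 1),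
          ((Ext.mk₀ q).comp x (zero_add (i + 1)) = 0 ∧ (Ext.mk₀ q').comp x (zero_add (i + 1)) = 0) ↔
            ∃ z : Ext A F i, δ i z = x) := by
  have hf : biprod.lift p (-p') = p ≫ biprod.inl - p' ≫ biprod.inr := by
    simp only [biprod.lift_eq, Preadditive.neg_comp, sub_eq_add_neg]
  have hpair : ∀ (n : ℕ) (m : Ext (B ⊞ B') F n),
      (Ext.mk₀ (biprod.lift p (-p'))).comp m (zero_add n) =
        (Ext.mk₀ p).comp ((Ext.mk₀ biprod.inl).comp m (zero_add n)) (zero_add n) -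
          (Ext.mk₀ p').comp ((Ext.mk₀ biprod.inr).comp m (zero_add n)) (zero_add n) := fun n m => by
    rw [Ext.mk₀_comp_mk₀_assoc, Ext.mk₀_comp_mk₀_assoc, hf, sub_eq_add_neg, Ext.mk₀_add, Ext.mk₀_neg, Ext.add_comp,
      Ext.neg_comp, ← sub_eq_add_neg]
  have hcomp1 : ∀ (n : ℕ) (x : Ext D F n), (Ext.mk₀ q).comp x (zero_add n) =
      (Ext.mk₀ biprod.inl).comp ((Ext.mk₀ (biprod.desc q q')).comp x (zero_add n)) (zero_add n) := fun n x => by
    rw [Ext.mk₀_comp_mk₀_assoc, biprod.inl_desc]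
  have hcomp2 : ∀ (n : ℕ) (x : Ext D F n), (Ext.mk₀ q').comp x (zero_add n) =
      (Ext.mk₀ biprod.inr).comp ((Ext.mk₀ (biprod.desc q q')).comp x (zero_add n)) (zero_add n) := fun n x => by
    rw [Ext.mk₀_comp_mk₀_assoc, biprod.inr_desc]
  have hext : ∀ (n : ℕ) (m m' : Ext (B ⊞ B') F n),
      (Ext.mk₀ biprod.inl).comp m (zero_add n) = (Ext.mk₀ biprod.inl).comp m' (zero_add n) →
      (Ext.mk₀ biprod.inr).comp m (zero_add n) = (Ext.mk₀ biprod.inr).comp m' (zero_add n) → m = m' :=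
    fun n m m' h h' => Ext.biprod_ext h h'
  have hmk : ∀ (n : ℕ) (y : Ext B F n) (y' : Ext B' F n), ∃ m : Ext (B ⊞ B') F n,
      (Ext.mk₀ biprod.inl).comp m (zero_add n) = y ∧ (Ext.mk₀ biprod.inr).comp m (zero_add n) = y' :=
    fun n y y' => ⟨Ext.biprodAddEquiv.symm (y, y'), congrArg Prod.fst (Ext.biprodAddEquiv.apply_symm_apply (y, y')),
      congrArg Prod.snd (Ext.biprodAddEquiv.apply_symm_apply (y, y'))⟩
  refine ⟨fun x x' h => ?_, fun n => hS.extClass.precomp F (show 1 + n = n + 1 by omega),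
    fun n => ⟨fun y => ?_, fun z => ?_, fun x => ?_⟩⟩
  · obtain ⟨φ, rfl⟩ := (Ext.mk₀_bijective _ F).2 x
    obtain ⟨φ', rfl⟩ := (Ext.mk₀_bijective _ F).2 x'
    simp only [Prod.mk.injEq, Ext.mk₀_comp_mk₀] at h
    have h1 := (Ext.mk₀_bijective _ F).1 h.1
    have h2 := (Ext.mk₀_bijective _ F).1 h.2
    haveI : Epi (biprod.desc q q') := hS.epi_g
    refine congrArg Ext.mk₀ ((cancel_epi (biprod.desc q q')).1 ?_)
    apply biprod.hom_ext'
    · simpa using h1
    · simpa using h2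
  · obtain ⟨m, hm, hm'⟩ := hmk n y.1 y.2
    rw [← hm, ← hm', ← hpair n m]
    constructor
    · intro h
      obtain ⟨x, hx⟩ := Ext.contravariant_sequence_exact₂ hS F m h
      exact ⟨x, (hcomp1 n x).trans (congrArg (fun t => (Ext.mk₀ biprod.inl).comp t (zero_add n)) hx),
        (hcomp2 n x).trans (congrArg (fun t => (Ext.mk₀ biprod.inr).comp t (zero_add n)) hx)⟩
    · rintro ⟨x, hx, hx'⟩
      rw [hcomp1] at hx
      rw [hcomp2] at hx'
      rw [hext n m _ hx.symm hx'.symm, Ext.mk₀_comp_mk₀_assoc, wz, Ext.mk₀_zero, Ext.zero_comp]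
  · constructor
    · intro h
      obtain ⟨m, hm⟩ := Ext.contravariant_sequence_exact₁ hS F z (n₁ := n + 1) (by omega) h
      exact ⟨((Ext.mk₀ biprod.inl).comp m (zero_add n), (Ext.mk₀ biprod.inr).comp m (zero_add n)),
        (hpair n m).symm.trans hm⟩
    · rintro ⟨y, rfl⟩
      obtain ⟨m, hm, hm'⟩ := hmk n y.1 y.2
      rw [← hm, ← hm', ← hpair n m]
      show hS.extClass.comp ((Ext.mk₀ (ShortComplex.mk _ _ wz).f).comp m (zero_add n)) (show 1 + n = n + 1 by omega) = 0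
      rw [← Ext.comp_assoc_of_second_deg_zero, hS.extClass_comp, Ext.zero_comp]
  · constructor
    · rintro ⟨h1, h2⟩
      rw [hcomp1] at h1
      rw [hcomp2] at h2
      have h3 : (Ext.mk₀ (biprod.desc q q')).comp x (zero_add (n + 1)) = 0 :=
        hext (n + 1) _ _ (h1.trans (Ext.comp_zero _ _ _ _ _).symm) (h2.trans (Ext.comp_zero _ _ _ _ _).symm)
      obtain ⟨z, hz⟩ := Ext.contravariant_sequence_exact₃ hS F x h3 (n₀ := n) (by omega)
      exact ⟨z, hz⟩
    · rintro ⟨z, rfl⟩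
      have h0 : (Ext.mk₀ (ShortComplex.mk _ _ wz).g).comp
          (hS.extClass.comp z (show 1 + n = n + 1 by omega)) (zero_add (n + 1)) = 0 := by
        rw [← Ext.comp_assoc (a₁₂ := 1) (Ext.mk₀ (ShortComplex.mk _ _ wz).g) hS.extClass z (zero_add 1) (by omega)
          (by omega), hS.comp_extClass, Ext.zero_comp]
      rw [hcomp1, hcomp2]
      exact ⟨(congrArg (fun t => (Ext.mk₀ biprod.inl).comp t (zero_add (n + 1))) h0).trans (Ext.comp_zero _ _ _ _ _),
        (congrArg (fun t => (Ext.mk₀ biprod.inr).comp t (zero_add (n + 1))) h0).trans (Ext.comp_zero _ _ _ _ _)⟩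

theorem sequence (F : CohTop.Ab X) (U U' : Opens X) :
    Function.Injective (fun x : LocCohZ.HZc F 0 (U ⊔ U') =>
      (LocCohZ.resZ F 0 (le_top : U ⊔ U' ≤ ⊤) (le_top : U ≤ ⊤) le_sup_left le_rfl x,
       LocCohZ.resZ F 0 (le_top : U ⊔ U' ≤ ⊤) (le_top : U' ≤ ⊤) le_sup_right le_rfl x)) ∧
    ∃ δ : ∀ i : ℕ, LocCohZ.HZc F i (U ⊓ U') →+ LocCohZ.HZc F (i + 1) (U ⊔ U'),
      ∀ i : ℕ,
        (∀ y : LocCohZ.HZc F i U × LocCohZ.HZc F i U',
          LocCohZ.resZ F i (le_top : U ≤ ⊤) (le_top : U ⊓ U' ≤ ⊤) inf_le_left le_rfl y.1 -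
              LocCohZ.resZ F i (le_top : U' ≤ ⊤) (le_top : U ⊓ U' ≤ ⊤) inf_le_right le_rfl y.2 = 0 ↔
            ∃ x : LocCohZ.HZc F i (U ⊔ U'),
              LocCohZ.resZ F i (le_top : U ⊔ U' ≤ ⊤) (le_top : U ≤ ⊤) le_sup_left le_rfl x = y.1 ∧
              LocCohZ.resZ F i (le_top : U ⊔ U' ≤ ⊤) (le_top : U' ≤ ⊤) le_sup_right le_rfl x = y.2) ∧
        (∀ w : LocCohZ.HZc F i (U ⊓ U'),
          δ i w = 0 ↔ ∃ y : LocCohZ.HZc F i U × LocCohZ.HZc F i U',
            LocCohZ.resZ F i (le_top : U ≤ ⊤) (le_top : U ⊓ U' ≤ ⊤) inf_le_left le_rfl y.1 -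
              LocCohZ.resZ F i (le_top : U' ≤ ⊤) (le_top : U ⊓ U' ≤ ⊤) inf_le_right le_rfl y.2 = w) ∧
        (∀ x : LocCohZ.HZc F (i + 1) (U ⊔ U'),
          (LocCohZ.resZ F (i + 1) (le_top : U ⊔ U' ≤ ⊤) (le_top : U ≤ ⊤) le_sup_left le_rfl x = 0 ∧
            LocCohZ.resZ F (i + 1) (le_top : U ⊔ U' ≤ ⊤) (le_top : U' ≤ ⊤) le_sup_right le_rfl x = 0) ↔
            ∃ w : LocCohZ.HZc F i (U ⊓ U'), δ i w = x) := by
  let Q := Opens.mayerVietorisSquare U U'
  have comp : ∀ {W W' : Opens X} (h : W' ≤ W),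
      CohCx.freeSheafMap JX (homOfLE h) ≫ CohCx.freeSheafMap JX (homOfLE (le_top : W ≤ ⊤)) =
        CohCx.freeSheafMap JX (homOfLE (le_top : W' ≤ ⊤)) := fun h => by
    rw [← CohFree.freeSheafMap_comp]; rfl
  haveI : Mono (CohCx.freeSheafMap JX (homOfLE (le_top : U ⊔ U' ≤ ⊤))) := (LocCohZ.zqSeq_shortExact _).mono_f
  have hS := quotSeq_shortExact
    (CohCx.freeSheafMap JX (homOfLE (inf_le_left : U ⊓ U' ≤ U)))
    (CohCx.freeSheafMap JX (homOfLE (inf_le_right : U ⊓ U' ≤ U')))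
    (CohCx.freeSheafMap JX (homOfLE (le_sup_left : U ≤ U ⊔ U')))
    (CohCx.freeSheafMap JX (homOfLE (le_sup_right : U' ≤ U ⊔ U')))
    (CohCx.freeSheafMap JX (homOfLE (le_top : U ⊓ U' ≤ ⊤)))
    (CohCx.freeSheafMap JX (homOfLE (le_top : U ≤ ⊤)))
    (CohCx.freeSheafMap JX (homOfLE (le_top : U' ≤ ⊤)))
    (CohCx.freeSheafMap JX (homOfLE (le_top : U ⊔ U' ≤ ⊤)))
    (comp _) (comp _) (comp _) (comp _) Q.shortComplex_shortExact
  obtain ⟨wz, hS'⟩ := ses_of_eq _ _ _ _ _ _ _ _ (comp _) (comp _) (comp _) (comp _) hS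
    (zmap (inf_le_left : U ⊓ U' ≤ U)) (zmap (inf_le_right : U ⊓ U' ≤ U'))
    (zmap (le_sup_left : U ≤ U ⊔ U')) (zmap (le_sup_right : U' ≤ U ⊔ U'))
    (zmap_eq _ _) (zmap_eq _ _) (zmap_eq _ _) (zmap_eq _ _)
  exact extSeq _ _ _ _ _ hS'

end Groth.Agent.LocZ95.MV
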