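import Groth.Prelude.Def_LocCohZ

/-! Restriction to an open subspace is left adjoint to direct image. -/

set_option autoImplicit false
set_option linter.style.haveILetI false

universe u

open CategoryTheory CategoryTheory.Limits Opposite TopologicalSpace

noncomputable section

namespace Groth.Agent.LocZ95

variable {X : TopCat.{u}} (U : Opens X)

/-- Restriction to an open is left adjoint to direct image. -/
def restrAdj : CohTop.restrFunctor U ⊣ CohTop.push (CohCx.incl U) :=
  Adjunction.restrictFullyFaithful
    ((U.isOpenEmbedding.isOpenMap.adjunction).op.whiskerLeft AddCommGrpCat.{u})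
    (fullyFaithfulSheafToPresheaf _ _) (fullyFaithfulSheafToPresheaf _ _) (Iso.refl _) (Iso.refl _)

/-- The inverse image to an open subspace is restriction. -/
def pullIsoRestr : CohTop.pull (CohCx.incl U) ≅ CohTop.restrFunctor U :=
  (TopCat.Sheaf.pullbackPushforwardAdjunction AddCommGrpCat.{u} (CohCx.incl U)).leftAdjointUniq (restrAdj U)

/-- The units correspond. -/
theorem unit_comp_pullIsoRestr (F : CohTop.Ab X) :
    (TopCat.Sheaf.pullbackPushforwardAdjunction AddCommGrpCat.{u} (CohCx.incl U)).unit.app F ≫
      (CohTop.push (CohCx.incl U)).map ((pullIsoRestr U).hom.app F) = (restrAdj U).unit.app F :=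
  Adjunction.unit_leftAdjointUniq_hom_app _ _ F

/-- The unit of `restrAdj` is restriction of sections. -/
theorem restrAdj_unit_app (F : CohTop.Ab X) (V : Opens X) (s : F.obj.obj (op V)) :
    (((restrAdj U).unit.app F).hom.app (op V)).hom s =
      F.obj.map (homOfLE (by rintro _ ⟨x, hx, rfl⟩; exact hx :
        U.isOpenEmbedding.isOpenMap.functor.obj ((Opens.map (CohCx.incl U)).obj V) ≤ V)).op s := by
  have h := Adjunction.map_restrictFullyFaithful_unit_app
    ((U.isOpenEmbedding.isOpenMap.adjunction).op.whiskerLeft AddCommGrpCat.{u})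
    (fullyFaithfulSheafToPresheaf (Opens.grothendieckTopology X) AddCommGrpCat.{u})
    (fullyFaithfulSheafToPresheaf _ _) (L := CohTop.restrFunctor U) (R := CohTop.push (CohCx.incl U))
    (Iso.refl _) (Iso.refl _) F
  refine (congrArg (fun t : F.obj ⟶ ((CohTop.push (CohCx.incl U)).obj ((CohTop.restrFunctor U).obj F)).obj =>
    (t.app (op V)).hom s) h).trans ?_
  rfl

end Groth.Agent.LocZ95

end
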