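import Groth.Agent.LocZ95.Sect
import Groth.Agent.SiteBase.SuppInj
import Groth.Agent.SiteBase.Top
import Groth.Agent.SpObjSS.Grothendieck

/-! Spectral sequences of cohomology with supports. -/

set_option autoImplicit false
set_option linter.style.haveILetI false

universe u

open CategoryTheory CategoryTheory.Limits Opposite TopologicalSpace
open Groth.Agent.SpObjSS Groth.Agent.TriCat

noncomputable section

namespace Groth.Agent.LocZ95

variable {X : TopCat.{u}} (U : Opens X)

local notation "JX" => Opens.grothendieckTopology X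

theorem injective_sectSuppF (I : CohTop.Ab X) [Injective I] : Injective ((LocCohZ.sectSuppF U).obj I) := by
  haveI := ClosedEmb.injective_HZ U I
  haveI := SiteBase.injective_push (CohCx.inclCompl U) (CohCx.HZ U I)
  haveI : IsIso ((ClosedEmb.pAdj (CohCx.inclCompl U)).unit.app (CohCx.sectSupp U I)) :=
    ClosedEmb.isIso_unit (ClosedEmb.isClosedEmbedding_inclCompl U) _
      fun x hx => ClosedEmb.isZero_stalk_sectSupp U I x ((ClosedEmb.not_range_inclCompl_iff U x).1 hx)
  exact Injective.of_iso (asIso ((ClosedEmb.pAdj (CohCx.inclCompl U)).unit.app (CohCx.sectSupp U I))).symm ‹_›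

/-- Sections over `V` as morphisms out of `ℤ_V`. -/
def sectIso (V : Opens X) :
    sheafToPresheaf JX AddCommGrpCat.{u} ⋙ (evaluation (Opens X)ᵒᵖ AddCommGrpCat.{u}).obj (op V) ≅
      homFrom (CohCx.freeSheaf JX V) :=
  NatIso.ofComponents (fun F => AddEquiv.toAddCommGrpIso (CohFree.homEquivSect JX V F).symm) fun {F G} g => by
    ext (t : F.obj.obj (op V))
    apply (CohFree.homEquivSect JX V G).injective
    show (CohFree.homEquivSect JX V G) ((CohFree.homEquivSect JX V G).symm ((g.hom.app (op V)).hom t)) =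
      (g.hom.app (op V)).hom ((CohFree.homEquivSect JX V F) ((CohFree.homEquivSect JX V F).symm t))
    rw [AddEquiv.apply_symm_apply, AddEquiv.apply_symm_apply]

/-- The local-to-global spectral sequence. -/
theorem exists_ss_HU_HZsh (F : CohTop.Ab X) :
    ∃ (E : E₂CohomologicalSpectralSequence AddCommGrpCat.{u})
      (a : SpSeq.Abutment E (fun n : ℤ =>
        if 0 ≤ n then AddCommGrpCat.of (LocCohZ.HZc F n.toNat U) else AddCommGrpCat.of PUnit.{u + 1})),
      (∀ n : ℤ, a.IsFinite n) ∧ SpSeq.IsBounded E ∧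
      ∀ p q : ℤ, Nonempty ((E.page 2 le_rfl).X (p, q) ≅
        (if 0 ≤ p ∧ 0 ≤ q then AddCommGrpCat.of (CohTop.HU ((LocCohZ.HZsh U q.toNat).obj F) p.toNat ⊤)
          else AddCommGrpCat.of PUnit.{u + 1})) :=
  exists_grothendieck_spectralSequence' (LocCohZ.sectSuppF U) (homFrom (CohCx.freeSheaf JX (⊤ : Opens X)))
    (fun Q hQ => have := injective_sectSuppF U Q; isRightAcyclic_of_injective _) F
    (fun n => AddCommGrpCat.of (LocCohZ.HZc F n U))
    (fun n => ⟨(SiteBase.rightDerivedCongr (Functor.isoWhiskerLeft (LocCohZ.sectSuppF U) (sectIso ⊤)).symm n).app F ≪≫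
      (RHZIso U n).app F⟩)
    (fun p q => AddCommGrpCat.of (CohTop.HU ((LocCohZ.HZsh U q).obj F) p ⊤))
    (fun p q => ⟨rightDerivedHomFromIso _ p _⟩)
    _ (AddCommGrpCat.isZero_of_subsingleton _)

variable {Y : TopCat.{u}}

/-- Morphisms out of `ℤ_X/ℤ_{U∩X}` as sections killed on `U`. -/
def evqEquiv (F : CohTop.Ab X) : ((P U).obj ⊤ ⟶ F) ≃+ LocCohZ.sectZ F (inter_le U (⊤ : Opens X)) :=
  AddEquiv.ofBijective
    ((evq U F ⊤).codRestrict _ fun φ => (range_evq U F ⊤ _).1 ⟨φ, rfl⟩)
    ⟨fun a b hab => evq_injective U F ⊤ (congrArg Subtype.val hab), fun s => by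
      obtain ⟨φ, hφ⟩ := (range_evq U F ⊤ s.1).2 s.2
      exact ⟨φ, Subtype.ext hφ⟩⟩

theorem evqEquiv_comp {F G : CohTop.Ab X} (φ : (P U).obj ⊤ ⟶ F) (g : F ⟶ G) :
    (evqEquiv U G (φ ≫ g)).1 = (g.hom.app (op (⊤ : Opens X))).hom (evqEquiv U F φ).1 := rfl

omit U in
/-- Sections with supports of a direct image. -/
def pushEquiv (f : X ⟶ Y) (V : Opens Y) (F : CohTop.Ab X) :
    LocCohZ.sectZ ((CohTop.push f).obj F) (inter_le V (⊤ : Opens Y)) ≃+
      LocCohZ.sectZ F (inter_le ((Opens.map f).obj V) (⊤ : Opens X)) where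
  toFun s := ⟨s.1, s.2⟩
  invFun s := ⟨s.1, s.2⟩
  left_inv _ := rfl
  right_inv _ := rfl
  map_add' _ _ := rfl

omit U in
/-- `Γ_{Y'} f_* = Γ_{f⁻¹ Y'}`. -/
def pushGammaIso (f : X ⟶ Y) (V : Opens Y) :
    CohTop.push f ⋙ LocCohZ.gammaZF V ≅ LocCohZ.gammaZF ((Opens.map f).obj V) :=
  Functor.isoWhiskerLeft (CohTop.push f) (gammaIso V) ≪≫
    NatIso.ofComponents (fun F => AddEquiv.toAddCommGrpIso
      (((evqEquiv V ((CohTop.push f).obj F)).trans (pushEquiv f V F)).trans
        (evqEquiv ((Opens.map f).obj V) F).symm)) (fun {F G} g => by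
      ext φ
      apply (evqEquiv ((Opens.map f).obj V) G).injective
      apply Subtype.ext
      refine Eq.trans (congrArg Subtype.val (AddEquiv.apply_symm_apply _ _)) ?_
      refine Eq.trans ?_ (evqEquiv_comp ((Opens.map f).obj V)
        ((evqEquiv ((Opens.map f).obj V) F).symm (pushEquiv f V F (evqEquiv V _ φ))) g).symm
      rw [AddEquiv.apply_symm_apply]
      rfl) ≪≫ (gammaIso ((Opens.map f).obj V)).symm

instance preservesFiniteLimits_gammaZF : PreservesFiniteLimits (LocCohZ.gammaZF U) :=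
  preservesFiniteLimits_of_natIso (gammaIso U).symm

omit U in
/-- The spectral sequence of a continuous map with supports. -/
theorem exists_ss_HZc_Rpush (f : X ⟶ Y) (V : Opens Y) (F : CohTop.Ab X) :
    ∃ (E : E₂CohomologicalSpectralSequence AddCommGrpCat.{u})
      (a : SpSeq.Abutment E (fun n : ℤ =>
        if 0 ≤ n then AddCommGrpCat.of (LocCohZ.HZc F n.toNat ((Opens.map f).obj V))
          else AddCommGrpCat.of PUnit.{u + 1})),
      (∀ n : ℤ, a.IsFinite n) ∧ SpSeq.IsBounded E ∧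
      ∀ p q : ℤ, Nonempty ((E.page 2 le_rfl).X (p, q) ≅
        (if 0 ≤ p ∧ 0 ≤ q then AddCommGrpCat.of (LocCohZ.HZc ((CohTop.Rpush f q.toNat).obj F) p.toNat V)
          else AddCommGrpCat.of PUnit.{u + 1})) :=
  exists_grothendieck_spectralSequence' (CohTop.push f) (LocCohZ.gammaZF V)
    (fun Q hQ => have := SiteBase.injective_push f Q; isRightAcyclic_of_injective _) F
    (fun n => AddCommGrpCat.of (LocCohZ.HZc F n ((Opens.map f).obj V)))
    (fun n => ⟨(SiteBase.rightDerivedCongr (pushGammaIso f V) n).app F ≪≫ (RHZIso _ n).app F⟩)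
    (fun p q => AddCommGrpCat.of (LocCohZ.HZc ((CohTop.Rpush f q).obj F) p V))
    (fun p q => ⟨(RHZIso V p).app _⟩)
    _ (AddCommGrpCat.isZero_of_subsingleton _)

end Groth.Agent.LocZ95

end
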