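import Groth.Prelude.Def_LocCohZ
import Groth.Agent.SiteBase.ClosedEmb
import Groth.Agent.SiteBase.DerivedExt
import Groth.Agent.SiteBase.DerivedComp
import Groth.Agent.SiteBase.Rpush
import Groth.Agent.SuppFamLib.Exact
import Groth.Agent.H9Misc.SupportsSS

/-!
# The sheaf of sections supported on a closed subset, and its derived functors

`HZsh U q` is the sheafification of `V ↦ H^q_{V∖U}(V, -)` and `RHZ U q` is `H^q_Z(X, -)`.
-/

set_option autoImplicit false
set_option linter.style.haveILetI false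

universe u

open CategoryTheory CategoryTheory.Limits Opposite TopologicalSpace

noncomputable section

namespace Groth.Agent.LocZ95

variable {X : TopCat.{u}} (U : Opens X)

local notation "JX" => Opens.grothendieckTopology X

theorem inter_le (V : Opens X) : U ⊓ V ≤ V := inf_le_right

/-- The inclusion of the sections with supports. -/
def incl (F : CohTop.Ab X) (V : Opens X) : ((LocCohZ.sectSuppF U).obj F).obj.obj (op V) →+ F.obj.obj (op V) :=
  ((kernel.ι ((TopCat.Sheaf.pullbackPushforwardAdjunction AddCommGrpCat.{u} (CohCx.incl U)).unit.app F)).hom.app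
    (op V)).hom

theorem incl_injective (F : CohTop.Ab X) (V : Opens X) : Function.Injective (incl U F V) :=
  SuppFamLib.kernel_ι_injective _ V

theorem range_incl (F : CohTop.Ab X) (V : Opens X) (s : F.obj.obj (op V)) :
    (∃ t, incl U F V t = s) ↔ F.obj.map (homOfLE (inter_le U V)).op s = 0 :=
  (SuppFamLib.exists_kernel_section_iff _ V s).trans (SuppFamLib.unit_app_eq_zero_iff U F V s)

theorem incl_res (F : CohTop.Ab X) {A B : Opens X} (f : A ⟶ B)
    (t : ((LocCohZ.sectSuppF U).obj F).obj.obj (op B)) :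
    incl U F A (((LocCohZ.sectSuppF U).obj F).obj.map f.op t) = F.obj.map f.op (incl U F B t) :=
  ConcreteCategory.congr_hom
    ((kernel.ι ((TopCat.Sheaf.pullbackPushforwardAdjunction AddCommGrpCat.{u} (CohCx.incl U)).unit.app F)).hom.naturality
      f.op) t

theorem incl_map {F G : CohTop.Ab X} (g : F ⟶ G) (V : Opens X)
    (t : ((LocCohZ.sectSuppF U).obj F).obj.obj (op V)) :
    incl U G V ((((LocCohZ.sectSuppF U).map g).hom.app (op V)).hom t) = (g.hom.app (op V)).hom (incl U F V t) := by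
  have hk : (LocCohZ.sectSuppF U).map g ≫
      kernel.ι ((TopCat.Sheaf.pullbackPushforwardAdjunction AddCommGrpCat.{u} (CohCx.incl U)).unit.app G) =
      kernel.ι ((TopCat.Sheaf.pullbackPushforwardAdjunction AddCommGrpCat.{u} (CohCx.incl U)).unit.app F) ≫ g :=
    kernel.lift_ι _ _ _
  exact congrArg (fun a => (a.hom.app (op V)).hom t) hk

/-- The free sheaves with supports, as a functor of the open. -/
def P : Opens X ⥤ CohTop.Ab X where
  obj V := LocCohZ.zq (inter_le U V)
  map {A B} f := LocCohZ.zqMap (inter_le U B) (inter_le U A) (inf_le_inf_left U (leOfHom f)) (leOfHom f)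
  map_id A := SuppFam.zqMap_id _
  map_comp f g := (SuppFam.zqMap_comp _ _ _ _ _ _ _).symm

/-- A morphism out of `ℤ_V/ℤ_{U∩V}` as a section. -/
def evq (F : CohTop.Ab X) (V : Opens X) : ((P U).obj V ⟶ F) →+ F.obj.obj (op V) :=
  (CohFree.evalGen JX V F).comp (Preadditive.leftComp F (cokernel.π _))

theorem evq_injective (F : CohTop.Ab X) (V : Opens X) : Function.Injective (evq U F V) := by
  intro a b hab
  apply coequalizer.hom_ext
  exact (CohFree.homEquivSect JX V F).injective hab

theorem range_evq (F : CohTop.Ab X) (V : Opens X) (s : F.obj.obj (op V)) :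
    (∃ φ, evq U F V φ = s) ↔ F.obj.map (homOfLE (inter_le U V)).op s = 0 := by
  constructor
  · rintro ⟨φ, rfl⟩
    refine (CohFree.evalGen_freeSheafMap_comp JX (homOfLE (inter_le U V)) F (cokernel.π _ ≫ φ)).symm.trans ?_
    rw [cokernel.condition_assoc, zero_comp, map_zero]
  · intro hs
    have hz : CohCx.freeSheafMap JX (homOfLE (inter_le U V)) ≫ CohFree.ofSect JX V F s = 0 := by
      apply (CohFree.homEquivSect JX (U ⊓ V) F).injective
      rw [map_zero, CohFree.homEquivSect_apply, CohFree.evalGen_freeSheafMap_comp, CohFree.evalGen_ofSect]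
      exact hs
    refine ⟨cokernel.desc _ _ hz, ?_⟩
    refine (congrArg (CohFree.evalGen JX V F) (cokernel.π_desc _ _ hz)).trans ?_
    exact CohFree.evalGen_ofSect JX _ F s

theorem exists_eq (F : CohTop.Ab X) (V : Opens X) (φ : (P U).obj V ⟶ F) : ∃ t, incl U F V t = evq U F V φ :=
  (range_incl U F V _).2 ((range_evq U F V _).1 ⟨φ, rfl⟩)

/-- The presentation of sections with supports. -/
def σ (F : CohTop.Ab X) (V : Opens X) :
    ((P U).obj V ⟶ F) ≃+ ((LocCohZ.sectSuppF U).obj F).obj.obj (op V) :=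
  AddEquiv.ofBijective
    (AddMonoidHom.mk' (fun φ => (exists_eq U F V φ).choose) fun a b => incl_injective U F V
      ((exists_eq U F V (a + b)).choose_spec.trans ((map_add _ a b).trans (Eq.trans
        (congrArg₂ (· + ·) (exists_eq U F V a).choose_spec.symm (exists_eq U F V b).choose_spec.symm)
        (map_add _ _ _).symm))))
    ⟨fun a b hab => evq_injective U F V (by
      rw [← (exists_eq U F V a).choose_spec, ← (exists_eq U F V b).choose_spec]
      exact congrArg (incl U F V) hab),
    fun t => by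
      obtain ⟨φ, hφ⟩ := (range_evq U F V _).2 ((range_incl U F V _).1 ⟨t, rfl⟩)
      exact ⟨φ, incl_injective U F V ((exists_eq U F V φ).choose_spec.trans hφ)⟩⟩

theorem incl_σ (F : CohTop.Ab X) (V : Opens X) (φ : (P U).obj V ⟶ F) : incl U F V (σ U F V φ) = evq U F V φ :=
  (exists_eq U F V φ).choose_spec

/-- `Γ_Z` as a presheaf valued functor is represented by the `ℤ_V/ℤ_{U∩V}`. -/
def pres : SiteBase.HomPres (P U) (LocCohZ.sectSuppF U ⋙ sheafToPresheaf JX AddCommGrpCat.{u}) where
  σ F V := σ U F V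
  σ_comp {F G} V φ g := incl_injective U G V (by
    refine (incl_σ U G V _).trans ?_
    refine Eq.trans ?_ (incl_map U g V _).symm
    rw [incl_σ]
    rfl)
  σ_map {F A B} f φ := incl_injective U F B (by
    refine (incl_σ U F B _).trans ?_
    refine Eq.trans ?_ (incl_res U F f _).symm
    rw [incl_σ]
    refine Eq.trans ?_ (CohFree.evalGen_freeSheafMap_comp JX f F (cokernel.π _ ≫ φ))
    show CohFree.evalGen JX B F (cokernel.π _ ≫ LocCohZ.zqMap (inter_le U A) (inter_le U B)
      (inf_le_inf_left U (leOfHom f)) (leOfHom f) ≫ φ) = _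
    rw [LocCohZ.zqMap, cokernel.π_desc_assoc, Category.assoc]
    rfl)

/-- Sheafifying the underlying presheaf changes nothing. -/
def sheafifyIso : LocCohZ.sectSuppF U ≅
    (LocCohZ.sectSuppF U ⋙ sheafToPresheaf JX AddCommGrpCat.{u}) ⋙ presheafToSheaf JX AddCommGrpCat.{u} :=
  (Functor.rightUnitor _).symm ≪≫ Functor.isoWhiskerLeft _ (asIso (sheafificationAdjunction JX AddCommGrpCat.{u}).counit).symm ≪≫
    (Functor.associator _ _ _).symm

/-- The presheaf `V ↦ H^q_{V∖U}(V, -)`. -/
abbrev HPre (q : ℕ) : CohTop.Ab X ⥤ (Opens X)ᵒᵖ ⥤ AddCommGrpCat.{u} := SiteBase.HomPres.extPsh (P U) q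

/-- The local cohomology sheaves are the sheafified presheaves of cohomology with supports. -/
def HZshIso (q : ℕ) : LocCohZ.HZsh U q ≅ HPre U q ⋙ presheafToSheaf JX AddCommGrpCat.{u} :=
  SiteBase.rightDerivedCongr (sheafifyIso U) q ≪≫
    SiteBase.rightDerivedCompIso (LocCohZ.sectSuppF U ⋙ sheafToPresheaf JX AddCommGrpCat.{u})
      (presheafToSheaf JX AddCommGrpCat.{u}) q ≪≫
    Functor.isoWhiskerRight ((pres U).rightDerivedIso q) _

/-- Global sections with supports are the morphisms out of `ℤ_X/ℤ_{U∩X}`. -/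
def gammaIso : LocCohZ.gammaZF U ≅ SpObjSS.homFrom ((P U).obj ⊤) :=
  NatIso.ofComponents (fun F => AddEquiv.toAddCommGrpIso (σ U F ⊤).symm) fun {F G} g => by
    ext t
    exact (SiteBase.HomPres.σ_symm_comp (pres U) ⊤ t g).symm

/-- `ℤ_X/ℤ_{U∩X}` is `ℤ_X/ℤ_U`. -/
def topIso : (P U).obj ⊤ ≅ LocCohZ.zq (le_top : U ≤ ⊤) where
  hom := LocCohZ.zqMap (le_top : U ≤ ⊤) (inter_le U ⊤) inf_le_left le_rfl
  inv := LocCohZ.zqMap (inter_le U ⊤) (le_top : U ≤ ⊤) (le_inf le_rfl le_top) le_rfl
  hom_inv_id := (SuppFam.zqMap_comp _ _ _ _ _ _ _).trans (SuppFam.zqMap_id _)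
  inv_hom_id := (SuppFam.zqMap_comp _ _ _ _ _ _ _).trans (SuppFam.zqMap_id _)

/-- The derived functors of `Γ_Z` are Ext functors. -/
def RHZIso (q : ℕ) : LocCohZ.RHZ U q ≅ Abelian.extFunctorObj (LocCohZ.zq (le_top : U ≤ ⊤)) q :=
  SiteBase.rightDerivedCongr (gammaIso U ≪≫ (preadditiveCoyoneda.mapIso (topIso U).op).symm) q ≪≫
    SuppCore.rightDerivedHomFromNatIso _ q

end Groth.Agent.LocZ95

end
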