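import Groth.Agent.LocZ95.ShiftA

/-! `ℋ^1_Z` as the cokernel of the unit. -/

set_option autoImplicit false
set_option linter.style.haveILetI false

universe u

open CategoryTheory CategoryTheory.Limits Opposite TopologicalSpace Abelian

noncomputable section

namespace Groth.Agent.LocZ95

variable {X : TopCat.{u}} (U : Opens X)

local notation "JX" => Opens.grothendieckTopology X

/-- The presheaf connecting map in degree zero. -/
def dd : G U ⋙ sheafToPresheaf JX AddCommGrpCat.{u} ⟶ HPre U 1 :=
  presExt0 (Q U) (presR U) ≫ δ U 0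

theorem unit_dd (F : CohTop.Ab X) : ((restrAdj U).unit.app F).hom ≫ (dd U).app F = 0 := by
  ext V (s : F.obj.obj V)
  show (((δ U 0).app F).app V).hom (Ext.mk₀ (((presR U).σ F V.unop).symm
    ((((restrAdj U).unit.app F).hom.app V).hom s))) = 0
  have h : Ext.mk₀ (((presR U).σ F V.unop).symm ((((restrAdj U).unit.app F).hom.app V).hom s)) =
      CohTop.res F 0 (img_le U V.unop) (Ext.mk₀ ((CohFree.homEquivSect JX V.unop F).symm s)) := by
    show _ = (Ext.mk₀ (CohCx.freeSheafMap JX (homOfLE (img_le U V.unop)))).comp (Ext.mk₀ _) (zero_add 0)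
    rw [Ext.mk₀_comp_mk₀]
    congr 1
    apply (CohFree.homEquivSect JX (img U V.unop) F).injective
    refine (AddEquiv.apply_symm_apply ((presR U).σ F V.unop) _).trans ?_
    refine (restrAdj_unit_app U F V.unop s).trans ?_
    refine Eq.trans ?_ (CohFree.evalGen_freeSheafMap_comp JX (homOfLE (img_le U V.unop)) F
      ((CohFree.homEquivSect JX V.unop F).symm s)).symm
    exact congrArg (fun t => F.obj.map (homOfLE (img_le U V.unop)).op t)
      (AddEquiv.apply_symm_apply (CohFree.homEquivSect JX V.unop F) s).symm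
  rw [h]
  exact δ_res U 0 F V.unop _

/-- The cokernel of the unit maps to the presheaf of supports. -/
def ddbar (F : CohTop.Ab X) : cokernel ((restrAdj U).unit.app F).hom ⟶ (HPre U 1).obj F :=
  cokernel.desc _ ((dd U).app F) (unit_dd U F)

theorem π_app_surjective {A B : (Opens X)ᵒᵖ ⥤ AddCommGrpCat.{u}} (f : A ⟶ B) (V : (Opens X)ᵒᵖ) :
    Function.Surjective ((cokernel.π f).app V).hom :=
  (AddCommGrpCat.epi_iff_surjective _).1
    (inferInstanceAs (Epi (((evaluation (Opens X)ᵒᵖ AddCommGrpCat.{u}).obj V).map (cokernel.π f))))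

theorem ddbar_π (F : CohTop.Ab X) (V : (Opens X)ᵒᵖ) (s : ((G U).obj F).obj.obj V) :
    ((ddbar U F).app V).hom (((cokernel.π ((restrAdj U).unit.app F).hom).app V).hom s) =
      (((dd U).app F).app V).hom s :=
  congrArg (fun t : ((G U).obj F).obj ⟶ (HPre U 1).obj F => (t.app V).hom s) (cokernel.π_desc _ _ _)

theorem isLocallySurjective_ddbar (F : CohTop.Ab X) : Presheaf.IsLocallySurjective JX (ddbar U F) := by
  haveI := isLocallySurjective_δ U 0 F
  refine ⟨fun {V} s => ?_⟩
  refine GrothendieckTopology.superset_covering _ (fun W g hg => ?_)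
    (Presheaf.imageSieve_mem JX ((δ U 0).app F) (U := op V) s)
  obtain ⟨z, hz⟩ := hg
  obtain ⟨φ, rfl⟩ := (Ext.mk₀_bijective ((Q U).obj W) F).2 z
  refine ⟨((cokernel.π ((restrAdj U).unit.app F).hom).app (op W)).hom ((presR U).σ F W φ), ?_⟩
  refine (ddbar_π U F (op W) _).trans (Eq.trans ?_ hz)
  exact congrArg (fun t => (((δ U 0).app F).app (op W)).hom (Ext.mk₀ t)) (AddEquiv.symm_apply_apply _ φ)

theorem isLocallyInjective_ddbar (F : CohTop.Ab X) : Presheaf.IsLocallyInjective JX (ddbar U F) := by
  refine ⟨fun {V} a b hab => ?_⟩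
  suffices h : a = b by
    subst h
    rw [Presheaf.equalizerSieve_self_eq_top]
    exact GrothendieckTopology.top_mem _ _
  refine sub_eq_zero.1 ?_
  obtain ⟨c, hc⟩ := π_app_surjective ((restrAdj U).unit.app F).hom V (a - b)
  have hd : (((dd U).app F).app V).hom c = 0 := by
    rw [← ddbar_π, hc]
    exact (map_sub _ a b).trans (sub_eq_zero.2 hab)
  obtain ⟨y, hy⟩ := exists_of_δ_eq_zero U 0 F V.unop _ hd
  obtain ⟨ψ, rfl⟩ := (Ext.mk₀_bijective (CohCx.freeSheaf JX V.unop) F).2 y
  have hc' : (((restrAdj U).unit.app F).hom.app V).hom (CohFree.evalGen JX V.unop F ψ) = c := by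
    refine (restrAdj_unit_app U F V.unop _).trans ?_
    have hy' : CohCx.freeSheafMap JX (homOfLE (img_le U V.unop)) ≫ ψ = ((presR U).σ F V.unop).symm c := by
      apply (Ext.mk₀_bijective ((Q U).obj V.unop) F).1
      exact Eq.trans (Ext.mk₀_comp_mk₀ _ _).symm hy
    refine (CohFree.evalGen_freeSheafMap_comp JX (homOfLE (img_le U V.unop)) F ψ).symm.trans ?_
    exact (congrArg (CohFree.evalGen JX (img U V.unop) F) hy').trans
      (AddEquiv.apply_symm_apply ((presR U).σ F V.unop) c)
  rw [← hc, ← hc']
  exact congrArg (fun t : F.obj ⟶ cokernel ((restrAdj U).unit.app F).hom => (t.app V).hom (CohFree.evalGen JX V.unop F ψ))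
    (cokernel.condition _)

/-- The map `j_* j^* ⟶ ℋ^1_Z`. -/
def θ : G U ⟶ LocCohZ.HZsh U 1 :=
  (sheafifyIsoR U).hom ≫ Functor.whiskerRight (dd U) (presheafToSheaf JX AddCommGrpCat.{u}) ≫ (HZshIso U 1).inv

theorem counit_inv_unit (F : CohTop.Ab X) :
    (restrAdj U).unit.app F ≫ (sheafifyIsoR U).hom.app F =
      inv ((sheafificationAdjunction JX AddCommGrpCat.{u}).counit.app F) ≫
        (presheafToSheaf JX AddCommGrpCat.{u}).map ((restrAdj U).unit.app F).hom := by
  simp only [sheafifyIsoR, Iso.trans_hom, Iso.symm_hom, NatTrans.comp_app, Functor.rightUnitor_inv_app,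
    Functor.associator_inv_app, Functor.isoWhiskerLeft_hom, Functor.whiskerLeft_app, Category.id_comp,
    Category.comp_id, asIso_inv, NatIso.isIso_inv_app]
  rw [IsIso.comp_inv_eq, Category.assoc]
  symm
  rw [IsIso.inv_comp_eq]
  exact (sheafificationAdjunction JX AddCommGrpCat.{u}).counit.naturality ((restrAdj U).unit.app F)

theorem unit_θ : (restrAdj U).unit ≫ θ U = 0 := by
  apply NatTrans.ext
  funext F
  simp only [θ, NatTrans.comp_app, Functor.whiskerRight_app]
  refine (Category.assoc _ _ _).symm.trans ?_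
  refine (congrArg (· ≫ _) (counit_inv_unit U F)).trans ?_
  rw [Category.assoc, ← Category.assoc ((presheafToSheaf JX AddCommGrpCat.{u}).map _), ← Functor.map_comp, unit_dd,
    Functor.map_zero, zero_comp, comp_zero]
  rfl

/-- The comparison with the cokernel of the unit. -/
def c : cokernel (restrAdj U).unit ⟶ LocCohZ.HZsh U 1 := cokernel.desc _ (θ U) (unit_θ U)

/-- The sheafified cokernel of the unit. -/
def cokIso (F : CohTop.Ab X) :
    cokernel ((restrAdj U).unit.app F) ≅
      (presheafToSheaf JX AddCommGrpCat.{u}).obj (cokernel ((restrAdj U).unit.app F).hom) :=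
  cokernel.mapIso ((restrAdj U).unit.app F) ((presheafToSheaf JX AddCommGrpCat.{u}).map ((restrAdj U).unit.app F).hom)
    (asIso ((sheafificationAdjunction JX AddCommGrpCat.{u}).counit.app F)).symm ((sheafifyIsoR U).app F)
    (counit_inv_unit U F) ≪≫
    (PreservesCokernel.iso (presheafToSheaf JX AddCommGrpCat.{u}) ((restrAdj U).unit.app F).hom).symm

theorem isIso_c_app (F : CohTop.Ab X) : IsIso ((c U).app F) := by
  haveI := isLocallySurjective_ddbar U F
  haveI := isLocallyInjective_ddbar U F
  haveI : IsIso ((presheafToSheaf JX AddCommGrpCat.{u}).map (ddbar U F)) := by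
    exact (GrothendieckTopology.W_iff (J := JX) (A := AddCommGrpCat.{u}) (ddbar U F)).1
      (GrothendieckTopology.W_of_isLocallyBijective JX (ddbar U F))
  let ev := (evaluation (CohTop.Ab X) (CohTop.Ab X)).obj F
  let e : (cokernel (restrAdj U).unit).obj F ≅ (LocCohZ.HZsh U 1).obj F :=
    PreservesCokernel.iso ev (restrAdj U).unit ≪≫ cokIso U F ≪≫
      asIso ((presheafToSheaf JX AddCommGrpCat.{u}).map (ddbar U F)) ≪≫ ((HZshIso U 1).app F).symm
  have h : (c U).app F = e.hom := by
    haveI : Epi ((cokernel.π (restrAdj U).unit).app F) := inferInstanceAs (Epi (ev.map (cokernel.π (restrAdj U).unit)))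
    rw [← cancel_epi ((cokernel.π (restrAdj U).unit).app F), ← NatTrans.comp_app]
    refine (congrArg (fun t : G U ⟶ LocCohZ.HZsh U 1 => t.app F) (cokernel.π_desc _ _ _)).trans ?_
    have h1 : (cokernel.π (restrAdj U).unit).app F ≫ (PreservesCokernel.iso ev (restrAdj U).unit).hom =
        cokernel.π ((restrAdj U).unit.app F) :=
      (Iso.eq_comp_inv (PreservesCokernel.iso ev (restrAdj U).unit)).1
        ((π_comp_cokernelComparison (restrAdj U).unit ev).symm.trans
          (congrArg (cokernel.π _ ≫ ·) (PreservesCokernel.iso_inv ev (restrAdj U).unit).symm))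
    have h2 : cokernel.π ((restrAdj U).unit.app F) ≫ (cokIso U F).hom =
        (sheafifyIsoR U).hom.app F ≫ (presheafToSheaf JX AddCommGrpCat.{u}).map
          (cokernel.π ((restrAdj U).unit.app F).hom) := by
      rw [cokIso, Iso.trans_hom, Iso.symm_hom, PreservesCokernel.iso_inv]
      refine (Category.assoc _ _ _).symm.trans ?_
      refine (congrArg (· ≫ _) (cokernel.π_desc _ _ _)).trans ?_
      refine (Category.assoc _ _ _).trans ?_
      exact congrArg ((sheafifyIsoR U).hom.app F ≫ ·) (π_comp_cokernelComparison _ _)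
    exact (assoc_five h1 h2 ((Functor.map_comp _ _ _).symm.trans
      (congrArg (presheafToSheaf JX AddCommGrpCat.{u}).map (cokernel.π_desc _ _ (unit_dd U F))))).symm
  rw [h]
  infer_instance

instance preservesFiniteLimits_restr : PreservesFiniteLimits (CohTop.restrFunctor U) :=
  haveI := ExtByZero.isRightAdjoint_restr U
  inferInstance

instance preservesFiniteColimits_restr : PreservesFiniteColimits (CohTop.restrFunctor U) :=
  haveI := (restrAdj U).isLeftAdjoint
  inferInstance

instance preservesInjective_restr : (CohTop.restrFunctor U).PreservesInjectiveObjects where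
  injective_obj {I} hI := by
    haveI := ExtByZero.preservesFiniteLimits_ext0 U
    haveI : (ExtByZero.ext0 U).PreservesMonomorphisms := preservesMonomorphisms_of_preservesLimitsOfShape _
    exact (ExtByZero.adj U).map_injective I hI

/-- `R^i(j_* j^*)` is `R^i j_*` of the restriction. -/
def RGIsoRpush (i : ℕ) : (G U).rightDerived i ≅ CohTop.restrFunctor U ⋙ CohTop.Rpush (CohCx.incl U) i :=
  SiteBase.rightDerivedPrecompIso (CohTop.restrFunctor U) (CohTop.push (CohCx.incl U)) i

/-- `ℋ^1_Z` is the cokernel of the unit. -/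
theorem nonempty_HZsh_one :
    Nonempty (LocCohZ.HZsh U 1 ≅
      cokernel (TopCat.Sheaf.pullbackPushforwardAdjunction AddCommGrpCat.{u} (CohCx.incl U)).unit) := by
  haveI : ∀ F, IsIso ((c U).app F) := isIso_c_app U
  haveI := NatIso.isIso_of_isIso_app (c U)
  exact ⟨(asIso (c U)).symm ≪≫ cokernelUnitIso (pullIsoRestr U)
    (TopCat.Sheaf.pullbackPushforwardAdjunction AddCommGrpCat.{u} (CohCx.incl U)).unit (restrAdj U).unit
    (unit_comp_pullIsoRestr U)⟩

end Groth.Agent.LocZ95

end
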