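import Groth.Agent.LocZ95.SS
import Groth.Agent.SiteBase.Kill

/-! Vanishing of local cohomology sheaves versus cohomology with supports. -/

set_option autoImplicit false
set_option linter.style.haveILetI false

universe u

open CategoryTheory CategoryTheory.Limits Opposite TopologicalSpace Abelian

noncomputable section

namespace Groth.Agent.LocZ95

variable {X : TopCat.{u}}

local notation "JX" => Opens.grothendieckTopology X

section LES

variable (F : CohTop.Ab X) {W V : Opens X} (h : W ≤ V)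

theorem exists_of_toHU_eq_zero (i : ℕ) (x : LocCohZ.HZ F (i + 1) h) (hx : LocCohZ.toHU F (i + 1) h x = 0) :
    ∃ z, LocCohZ.delta F i h z = x :=
  Ext.contravariant_sequence_exact₃ (LocCohZ.zqSeq_shortExact h) F x hx (n₀ := i) (by omega)

theorem toHU_zero_injective : Function.Injective (LocCohZ.toHU F 0 h) := by
  rw [injective_iff_map_eq_zero]
  intro x hx
  obtain ⟨φ, rfl⟩ := (Ext.mk₀_bijective (LocCohZ.zq h) F).2 x
  have h0 : Ext.mk₀ (cokernel.π (CohCx.freeSheafMap JX (homOfLE h)) ≫ φ) = 0 := by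
    rw [← Ext.mk₀_comp_mk₀]; exact hx
  rw [Ext.mk₀_eq_zero_iff] at h0
  rw [Ext.mk₀_eq_zero_iff]
  exact coequalizer.hom_ext (h0.trans comp_zero.symm)

theorem res_toHU (i : ℕ) (x : LocCohZ.HZ F i h) : CohTop.res F i h (LocCohZ.toHU F i h x) = 0 := by
  show (Ext.mk₀ (CohCx.freeSheafMap JX (homOfLE h))).comp
    ((Ext.mk₀ (cokernel.π (CohCx.freeSheafMap JX (homOfLE h)))).comp x (zero_add i)) (zero_add i) = 0
  rw [Ext.mk₀_comp_mk₀_assoc, cokernel.condition, Ext.mk₀_zero, Ext.zero_comp]

theorem exists_of_res_eq_zero (i : ℕ) (y : CohTop.HU F i V) (hy : CohTop.res F i h y = 0) :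
    ∃ x, LocCohZ.toHU F i h x = y :=
  Ext.contravariant_sequence_exact₂ (LocCohZ.zqSeq_shortExact h) F y hy

theorem delta_res (i : ℕ) (y : CohTop.HU F i V) : LocCohZ.delta F i h (CohTop.res F i h y) = 0 := by
  show (LocCohZ.zqSeq_shortExact h).extClass.comp
    ((Ext.mk₀ (LocCohZ.zqSeq h).f).comp y (zero_add i)) (show 1 + i = i + 1 by omega) = 0
  rw [← Ext.comp_assoc_of_second_deg_zero, (LocCohZ.zqSeq_shortExact h).extClass_comp, Ext.zero_comp]

theorem exists_of_delta_eq_zero (i : ℕ) (z : CohTop.HU F i W) (hz : LocCohZ.delta F i h z = 0) :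
    ∃ y, CohTop.res F i h y = z :=
  Ext.contravariant_sequence_exact₁ (LocCohZ.zqSeq_shortExact h) F z (n₁ := i + 1) (by omega) hz

theorem eq_zero_of_toHU (i : ℕ) (hsurj : ∀ j, j + 1 = i → Function.Surjective (CohTop.res F j h))
    (x : LocCohZ.HZ F i h) (hx : LocCohZ.toHU F i h x = 0) : x = 0 := by
  cases i with
  | zero => exact toHU_zero_injective F h (hx.trans (map_zero _).symm)
  | succ i =>
    obtain ⟨z, rfl⟩ := exists_of_toHU_eq_zero F h i x hx
    obtain ⟨y, rfl⟩ := hsurj i rfl z
    exact delta_res F h i y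

theorem subsingleton_HZ_of_res (i : ℕ) (hsurj : ∀ j, j + 1 = i → Function.Surjective (CohTop.res F j h))
    (hinj : Function.Injective (CohTop.res F i h)) : Subsingleton (LocCohZ.HZ F i h) :=
  subsingleton_of_forall_eq 0 fun x =>
    eq_zero_of_toHU F h i hsurj x (hinj ((res_toHU F h i x).trans (map_zero _).symm))

theorem res_injective_of_subsingleton (i : ℕ) [Subsingleton (LocCohZ.HZ F i h)] :
    Function.Injective (CohTop.res F i h) := by
  rw [injective_iff_map_eq_zero]
  intro y hy
  obtain ⟨x, rfl⟩ := exists_of_res_eq_zero F h i y hy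
  rw [Subsingleton.elim x 0, map_zero]

theorem res_surjective_of_subsingleton (i : ℕ) [Subsingleton (LocCohZ.HZ F (i + 1) h)] :
    Function.Surjective (CohTop.res F i h) := fun z =>
  exists_of_delta_eq_zero F h i z (Subsingleton.elim _ _)

theorem res_zero_surjective_of_flasque [TopCat.Sheaf.IsFlasque F] : Function.Surjective (CohTop.res F 0 h) := by
  intro z
  obtain ⟨φ, rfl⟩ := (Ext.mk₀_bijective (CohCx.freeSheaf JX W) F).2 z
  obtain ⟨t, ht⟩ := (AddCommGrpCat.epi_iff_surjective _).1
    (TopCat.Presheaf.IsFlasque.epi (F := F.obj) (homOfLE h).op) (SiteBase.secEquiv JX W F φ)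
  refine ⟨Ext.mk₀ ((SiteBase.secEquiv JX V F).symm t), ?_⟩
  show (Ext.mk₀ (CohCx.freeSheafMap JX (homOfLE h))).comp (Ext.mk₀ ((SiteBase.secEquiv JX V F).symm t)) (zero_add 0) = _
  rw [Ext.mk₀_comp_mk₀]
  congr 1
  apply (SiteBase.secEquiv JX W F).injective
  rw [SiteBase.secEquiv_freeSheafMap, AddEquiv.apply_symm_apply]
  exact ht

theorem subsingleton_HZ_of_flasque [TopCat.Sheaf.IsFlasque F] (i : ℕ) :
    Subsingleton (LocCohZ.HZ F (i + 1) h) := by
  refine subsingleton_of_forall_eq 0 fun x => eq_zero_of_toHU F h (i + 1) (fun j hj => ?_) x ?_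
  · cases j with
    | zero => exact res_zero_surjective_of_flasque F h
    | succ j =>
      intro z
      exact ⟨0, (SiteBase.subsingleton_HU_of_isFlasque F W j).elim _ _⟩
  · exact (SiteBase.subsingleton_HU_of_isFlasque F V i).elim _ _

theorem subsingleton_HZ_congr {W' : Opens X} (e : W = W') (h' : W' ≤ V) (i : ℕ) :
    Subsingleton (LocCohZ.HZ F i h) ↔ Subsingleton (LocCohZ.HZ F i h') := by
  subst e; rfl

end LES

variable (U : Opens X)

theorem subsingleton_HZ_inf_comm (F : CohTop.Ab X) (V : Opens X) (i : ℕ) :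
    Subsingleton (LocCohZ.HZ F i (inf_le_left : V ⊓ U ≤ V)) ↔ Subsingleton (LocCohZ.HZ F i (inter_le U V)) :=
  subsingleton_HZ_congr F inf_le_left (inf_comm V U) (inter_le U V) i

theorem res_eq_res {W W' V : Opens X} (F : CohTop.Ab X) (e : W = W') (h : W ≤ V) (h' : W' ≤ V) (i : ℕ) :
    (Function.Bijective (CohTop.res F i h) ↔ Function.Bijective (CohTop.res F i h')) ∧
    (Function.Injective (CohTop.res F i h) ↔ Function.Injective (CohTop.res F i h')) := by
  subst e; exact ⟨Iff.rfl, Iff.rfl⟩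

theorem isZero_HZsh_of_presheaf (F : CohTop.Ab X) (i : ℕ)
    (hF : ∀ V : Opens X, Subsingleton (LocCohZ.HZ F i (inter_le U V))) : IsZero ((LocCohZ.HZsh U i).obj F) := by
  refine IsZero.of_iso (SiteBase.isZero_sheafify ((HPre U i).obj F) fun V x => ?_) ((HZshIso U i).app F)
  exact ⟨⊤, GrothendieckTopology.top_mem _ _, fun W g _ => (hF W).elim _ _⟩

theorem resZ_toHU (F : CohTop.Ab X) (i : ℕ) {A B : Opens X} (f : A ≤ B) (x : LocCohZ.HZ F i (inter_le U B)) :
    LocCohZ.toHU F i (inter_le U A) ((Ext.mk₀ ((P U).map (homOfLE f))).comp x (zero_add i)) =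
      CohTop.res F i f (LocCohZ.toHU F i (inter_le U B) x) := by
  show (Ext.mk₀ (cokernel.π _)).comp ((Ext.mk₀ (LocCohZ.zqMap (inter_le U B) (inter_le U A)
      (inf_le_inf_left U f) f)).comp x (zero_add i)) (zero_add i) =
    (Ext.mk₀ (CohCx.freeSheafMap JX (homOfLE f))).comp ((Ext.mk₀ (cokernel.π _)).comp x (zero_add i)) (zero_add i)
  rw [Ext.mk₀_comp_mk₀_assoc, Ext.mk₀_comp_mk₀_assoc]
  congr 2
  exact cokernel.π_desc _ _ _

theorem isZero_HZsh_succ_of_surjective (F : CohTop.Ab X) (N : ℕ)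
    (hsurj : ∀ V : Opens X, Function.Surjective (CohTop.res F N (inter_le U V))) :
    IsZero ((LocCohZ.HZsh U (N + 1)).obj F) := by
  refine IsZero.of_iso (SiteBase.isZero_sheafify ((HPre U (N + 1)).obj F) fun V x => ?_) ((HZshIso U (N + 1)).app F)
  obtain ⟨S, hS, hres⟩ := SiteBase.exists_cover_res_eq_zero F V N (LocCohZ.toHU F (N + 1) (inter_le U V) x)
  refine ⟨S, hS, fun W g hg => ?_⟩
  refine eq_zero_of_toHU F (inter_le U W) (N + 1) (fun j hj => ?_) _
    ((resZ_toHU U F (N + 1) (leOfHom g) x).trans (hres W g hg))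
  rw [show j = N by omega]
  exact hsurj W

theorem isZero_sectSuppF_of_flasque_pos (F : CohTop.Ab X) [TopCat.Sheaf.IsFlasque F] (i : ℕ) :
    IsZero ((LocCohZ.HZsh U (i + 1)).obj F) :=
  isZero_HZsh_of_presheaf U F (i + 1) fun _ => subsingleton_HZ_of_flasque F _ i

/-- `Γ_Z` is left exact. -/
theorem preservesFiniteLimits_sectSuppF : PreservesFiniteLimits (LocCohZ.sectSuppF U) := by
  refine (Functor.preservesFiniteLimits_iff_forall_exact_map_and_mono _).2 fun S hS => ?_
  have hinj : ∀ V : Opens X, Function.Injective (((LocCohZ.sectSuppF U).map S.f).hom.app (op V)).hom := by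
    intro V a b hab
    haveI := hS.mono_f
    apply incl_injective U S.X₁ V
    apply SuppFamLib.app_injective_of_mono S.f V
    rw [← incl_map, ← incl_map, hab]
  haveI hmono : Mono ((LocCohZ.sectSuppF U).map S.f) := by
    haveI : Mono ((LocCohZ.sectSuppF U).map S.f).hom := by
      haveI : ∀ V, Mono (((LocCohZ.sectSuppF U).map S.f).hom.app V) := fun V =>
        (AddCommGrpCat.mono_iff_injective _).2 (hinj V.unop)
      exact NatTrans.mono_of_mono_app _
    exact (sheafToPresheaf JX AddCommGrpCat.{u}).mono_of_mono_map this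
  refine ⟨?_, hmono⟩
  let G := LocCohZ.sectSuppF U
  let l : G.obj S.X₁ ⟶ kernel (G.map S.g) :=
    kernel.lift (G.map S.g) (G.map S.f) (by rw [← G.map_comp, S.zero, G.map_zero])
  have hl : l ≫ kernel.ι (G.map S.g) = G.map S.f := kernel.lift_ι _ _ _
  haveI : IsIso l := by
    haveI : IsIso l.hom := by
      haveI : ∀ V, IsIso (l.hom.app V) := by
        intro V
        refine (ConcreteCategory.isIso_iff_bijective _).2 ⟨fun a b hab => hinj V.unop ?_, fun t => ?_⟩
        · rw [← hl]
          exact congrArg ((kernel.ι (G.map S.g)).hom.app V).hom hab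
        · let s := incl U S.X₂ V.unop (((kernel.ι (G.map S.g)).hom.app V).hom t)
          have h0 : ((G.map S.g).hom.app V).hom (((kernel.ι (G.map S.g)).hom.app V).hom t) = 0 :=
            (SuppFamLib.exists_kernel_section_iff _ V.unop _).1 ⟨t, rfl⟩
          obtain ⟨a, ha⟩ := SuppFamLib.exists_section_of_shortExact hS V.unop s (by
            refine (incl_map U S.g V.unop _).symm.trans ?_
            exact (congrArg (incl U S.X₃ V.unop) h0).trans (map_zero _))
          have hz : S.X₁.obj.map (homOfLE (inter_le U V.unop)).op a = 0 := by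
            haveI := hS.mono_f
            apply SuppFamLib.app_injective_of_mono S.f (U ⊓ V.unop)
            refine (ConcreteCategory.congr_hom (S.f.hom.naturality (homOfLE (inter_le U V.unop)).op) a).trans ?_
            refine ((congrArg _ ha).trans ((range_incl U S.X₂ V.unop s).1 ⟨_, rfl⟩)).trans ?_
            exact (map_zero _).symm
          obtain ⟨a', ha'⟩ := (range_incl U S.X₁ V.unop a).2 hz
          refine ⟨a', SuppFamLib.kernel_ι_injective _ _ (incl_injective U S.X₂ V.unop ?_)⟩
          refine Eq.trans (congrArg (fun m => incl U S.X₂ V.unop ((m.hom.app V).hom a')) hl) ?_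
          refine (incl_map U S.f V.unop a').trans ?_
          rw [ha']
          exact ha
      exact NatIso.isIso_of_isIso_app _
    haveI : IsIso ((sheafToPresheaf JX AddCommGrpCat.{u}).map l) := by assumption
    exact isIso_of_reflects_iso l (sheafToPresheaf JX AddCommGrpCat.{u})
  exact ShortComplex.exact_of_f_is_kernel _ (IsKernel.isoKernel _ (G.map S.f) (kernelIsKernel (G.map S.g)) (asIso l) hl)

theorem hom_eq_zero_of_isZero (F : CohTop.Ab X) (h0 : IsZero ((LocCohZ.sectSuppF U).obj F)) (V : Opens X) :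
    Subsingleton (LocCohZ.HZ F 0 (inter_le U V)) := by
  refine subsingleton_of_forall_eq 0 fun x => ?_
  obtain ⟨φ, rfl⟩ := (Ext.mk₀_bijective (LocCohZ.zq (inter_le U V)) F).2 x
  rw [Ext.mk₀_eq_zero_iff]
  apply (σ U F V).injective
  exact (AddCommGrpCat.subsingleton_of_isZero (Functor.map_isZero
    (sheafToPresheaf JX AddCommGrpCat.{u} ⋙ (evaluation (Opens X)ᵒᵖ AddCommGrpCat.{u}).obj (op V)) h0)).elim _ _

theorem sectSuppF_map_ι_epi (F : CohTop.Ab X) :
    Epi ((LocCohZ.sectSuppF U).map
      (kernel.ι ((TopCat.Sheaf.pullbackPushforwardAdjunction AddCommGrpCat.{u} (CohCx.incl U)).unit.app F))) := by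
  refine (TopCat.Sheaf.isLocallySurjective_iff_epi _).1
    ((TopCat.Presheaf.isLocallySurjective_iff _).2 fun V t y hy => ⟨V, le_rfl, ?_, hy⟩)
  let K := CohCx.sectSupp U F
  obtain ⟨a, ha⟩ := (range_incl U K V t).2 (incl_injective U F _ (by
    refine (incl_res U F (homOfLE (inter_le U V)) t).trans ?_
    exact ((range_incl U F V _).1 ⟨t, rfl⟩).trans (map_zero _).symm))
  refine ⟨a, incl_injective U F V ?_⟩
  refine (incl_map U _ V a).trans ?_
  rw [ha]
  simp [TopCat.Presheaf.restrictOpen, TopCat.Presheaf.restrict]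
  rfl

theorem exists_embedding (F : CohTop.Ab X) (h0 : IsZero ((LocCohZ.sectSuppF U).obj F)) :
    ∃ (E : ShortComplex (CohTop.Ab X)), E.ShortExact ∧ E.X₁ = F ∧ Injective E.X₂ ∧
      IsZero ((LocCohZ.sectSuppF U).obj E.X₂) := by
  haveI := preservesFiniteLimits_sectSuppF U
  let adj := TopCat.Sheaf.pullbackPushforwardAdjunction AddCommGrpCat.{u} (CohCx.incl U)
  let I₀ := Injective.under F
  let j : F ⟶ I₀ := Injective.ι F
  let K : CohTop.Ab X := (LocCohZ.sectSuppF U).obj I₀
  let ι : K ⟶ I₀ := kernel.ι (adj.unit.app I₀)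
  haveI : Injective K := injective_sectSuppF U I₀
  haveI : Mono ι := inferInstanceAs (Mono (kernel.ι (adj.unit.app I₀)))
  let r : I₀ ⟶ K := Injective.factorThru (𝟙 K) ι
  have hr : ι ≫ r = 𝟙 K := Injective.comp_factorThru _ _
  let π : I₀ ⟶ cokernel ι := cokernel.π ι
  let s : cokernel ι ⟶ I₀ := cokernel.desc ι (𝟙 I₀ - r ≫ ι) (by
    rw [Preadditive.comp_sub, Category.comp_id, ← Category.assoc, hr, Category.id_comp, sub_self])
  have hs : s ≫ π = 𝟙 _ := by
    apply coequalizer.hom_ext
    show π ≫ s ≫ π = π ≫ 𝟙 _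
    rw [← Category.assoc, show π ≫ s = 𝟙 I₀ - r ≫ ι from cokernel.π_desc _ _ _, Preadditive.sub_comp,
      Category.assoc, cokernel.condition, comp_zero, sub_zero, Category.id_comp, Category.comp_id]
  haveI : Injective (cokernel ι) := ⟨fun {A B} g f _ =>
    ⟨Injective.factorThru (g ≫ s) f ≫ π, by rw [← Category.assoc, Injective.comp_factorThru, Category.assoc, hs,
      Category.comp_id]⟩⟩
  haveI : Mono (j ≫ π) := by
    refine Preadditive.mono_of_cancel_zero _ fun {T} a ha => ?_
    have h1 : (a ≫ j) ≫ (𝟙 I₀ - r ≫ ι) = 0 := by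
      rw [← show π ≫ s = 𝟙 I₀ - r ≫ ι from cokernel.π_desc _ _ _, ← Category.assoc, Category.assoc a j π, ha,
        zero_comp]
    rw [Preadditive.comp_sub, Category.comp_id, sub_eq_zero] at h1
    have h2 : (a ≫ j) ≫ adj.unit.app I₀ = 0 := by
      rw [h1]
      simp only [Category.assoc, ι]
      refine (congrArg (fun z => a ≫ j ≫ r ≫ z) (kernel.condition _)).trans ?_
      exact ((congrArg (fun z => a ≫ j ≫ z) comp_zero).trans ((congrArg (a ≫ ·) comp_zero).trans comp_zero))
    rw [Category.assoc, show j ≫ adj.unit.app I₀ = adj.unit.app F ≫ (CohTop.push (CohCx.incl U)).map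
      ((CohTop.pull (CohCx.incl U)).map j) from adj.unit.naturality j] at h2
    replace h2 := (Category.assoc a (adj.unit.app F) _).trans h2
    haveI : PreservesFiniteLimits (CohTop.pull (CohCx.incl U)) := SiteBase.preservesFiniteLimits_pull _
    haveI : (CohTop.pull (CohCx.incl U)).PreservesMonomorphisms := preservesMonomorphisms_of_preservesLimitsOfShape _
    haveI : Mono ((CohTop.pull (CohCx.incl U)).map j) := inferInstance
    haveI : Mono ((CohTop.push (CohCx.incl U)).map ((CohTop.pull (CohCx.incl U)).map j)) := by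
      haveI : (CohTop.push (CohCx.incl U)).PreservesMonomorphisms := adj.isRightAdjoint.exists_leftAdjoint.elim
        fun L ⟨ad⟩ => Functor.preservesMonomorphisms_of_adjunction ad
      infer_instance
    have h3 : a ≫ adj.unit.app F = 0 :=
      (cancel_mono ((CohTop.push (CohCx.incl U)).map ((CohTop.pull (CohCx.incl U)).map j))).1 (h2.trans zero_comp.symm)
    rw [← kernel.lift_ι (adj.unit.app F) a h3, IsZero.eq_of_tgt (show IsZero (kernel (adj.unit.app F)) from h0)
      (kernel.lift (adj.unit.app F) a h3) 0, zero_comp]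
    rfl
  refine ⟨ShortComplex.mk (j ≫ π) (cokernel.π (j ≫ π)) (cokernel.condition _),
    { exact := ShortComplex.exact_of_g_is_cokernel _ (cokernelIsCokernel _)
      mono_f := ‹_›
      epi_g := inferInstanceAs (Epi (cokernel.π _)) }, rfl, ‹_›, ?_⟩
  let G := LocCohZ.sectSuppF U
  haveI : Epi (G.map ι) := sectSuppF_map_ι_epi U I₀
  have hπ : G.map π = 0 := by
    rw [← cancel_epi (G.map ι), ← G.map_comp, cokernel.condition, G.map_zero, comp_zero]
  rw [IsZero.iff_id_eq_zero, ← G.map_id, ← hs, G.map_comp, hπ, comp_zero]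

/-- The shift isomorphism of presheaves. -/
theorem nonempty_shift {E : ShortComplex (CohTop.Ab X)} (hE : E.ShortExact) (i : ℕ)
    (hI : ∀ (V : Opens X) (k : ℕ), Subsingleton (LocCohZ.HZ E.X₂ k (inter_le U V))) :
    Nonempty ((HPre U i).obj E.X₃ ≅ (HPre U (i + 1)).obj E.X₁) := by
  have bij : ∀ V : Opens X, Function.Bijective
      (fun x : Ext ((P U).obj V) E.X₃ i => x.comp hE.extClass (rfl : i + 1 = i + 1)) := by
    intro V
    refine ⟨fun a b hab => sub_eq_zero.1 ?_, fun z => ?_⟩
    · let f : Ext ((P U).obj V) E.X₃ i →+ Ext ((P U).obj V) E.X₁ (i + 1) :=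
        AddMonoidHom.mk' (fun x => x.comp hE.extClass rfl) fun a b => Ext.add_comp a b hE.extClass rfl
      obtain ⟨w, hw⟩ := Ext.covariant_sequence_exact₃ _ hE (a - b) rfl
        ((map_sub f a b).trans (sub_eq_zero.2 hab))
      rw [← hw, show w = 0 from (hI V i).elim _ _, Ext.zero_comp]
    · exact Ext.covariant_sequence_exact₁ _ hE z ((hI V (i + 1)).elim _ _) (n₀ := i) rfl
  refine ⟨NatIso.ofComponents (fun V => AddEquiv.toAddCommGrpIso
    (AddEquiv.ofBijective (AddMonoidHom.mk' _ fun a b => Ext.add_comp a b hE.extClass rfl) (bij V.unop)))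
    fun {V V'} g => ?_⟩
  ext x
  exact Ext.comp_assoc _ _ _ (zero_add i) rfl (by simp)

/-- Vanishing of the sheaves gives vanishing of the groups. -/
theorem subsingleton_HZ_of_isZero : ∀ (n : ℕ) (F : CohTop.Ab X),
    (∀ i, i < n → IsZero ((LocCohZ.HZsh U i).obj F)) →
      ∀ (V : Opens X) (i : ℕ), i < n → Subsingleton (LocCohZ.HZ F i (inter_le U V)) := by
  intro n
  induction n with
  | zero => intro F _ V i hi; omega
  | succ n ih =>
    intro F hF V i hi
    haveI := preservesFiniteLimits_sectSuppF U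
    have h0 : IsZero ((LocCohZ.sectSuppF U).obj F) :=
      IsZero.of_iso (hF 0 n.succ_pos) ((LocCohZ.sectSuppF U).rightDerivedZeroIsoSelf.symm.app F)
    cases i with
    | zero => exact hom_eq_zero_of_isZero U F h0 V
    | succ i =>
      obtain ⟨E, hE, rfl, hInj, hIz⟩ := exists_embedding U F h0
      haveI := hInj
      haveI : TopCat.Sheaf.IsFlasque E.X₂ := SiteBase.isFlasque_of_injective E.X₂
      have hI : ∀ (W : Opens X) (k : ℕ), Subsingleton (LocCohZ.HZ E.X₂ k (inter_le U W)) := fun W k => by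
        cases k with
        | zero => exact hom_eq_zero_of_isZero U E.X₂ hIz W
        | succ k => exact subsingleton_HZ_of_flasque E.X₂ _ k
      have hQ : ∀ k, k < n → IsZero ((LocCohZ.HZsh U k).obj E.X₃) := fun k hk => by
        obtain ⟨e⟩ := nonempty_shift U hE k hI
        exact IsZero.of_iso (hF (k + 1) (by omega)) ((HZshIso U k).app _ ≪≫
          (presheafToSheaf JX AddCommGrpCat.{u}).mapIso e ≪≫ ((HZshIso U (k + 1)).app _).symm)
      have hQV := ih E.X₃ hQ V i (by omega)
      refine subsingleton_of_forall_eq 0 fun z => ?_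
      obtain ⟨y, rfl⟩ := Ext.covariant_sequence_exact₁ _ hE z ((hI V (i + 1)).elim _ _) (n₀ := i) rfl
      rw [show y = 0 from hQV.elim _ _, Ext.zero_comp]

/-- Sheaves of sections with supports of flasque sheaves are flasque. -/
theorem isFlasque_sectSuppF (F : CohTop.Ab X) [TopCat.Sheaf.IsFlasque F] :
    TopCat.Sheaf.IsFlasque ((LocCohZ.sectSuppF U).obj F) where
  epi {A B} i := by
    refine (AddCommGrpCat.epi_iff_surjective _).2 fun t => ?_
    let V := A.unop
    let W := B.unop
    have hWV : W ≤ V := leOfHom i.unop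
    let s := incl U F W t
    let D : ULift.{u} Bool → Opens X := fun b => bif b.down then W else U ⊓ V
    have hDV : ∀ b, D b ≤ V := by rintro ⟨_ | _⟩ <;> [exact inf_le_right; exact hWV]
    let sf : ∀ b, F.obj.obj (op (D b)) := fun b => match b with
      | ⟨true⟩ => s
      | ⟨false⟩ => 0
    have hs : F.obj.map (homOfLE (inter_le U W)).op s = 0 := (range_incl U F W s).1 ⟨t, rfl⟩
    have hzero : ∀ (C : Opens X) (hC : C ≤ W) (hCU : C ≤ U), F.obj.map (homOfLE hC).op s = 0 := fun C hC hCU => by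
      rw [← SuppFamLib.res_res F (inter_le U W) (le_inf hCU hC) s, hs, map_zero]
    have hcompat : TopCat.Presheaf.IsCompatible F.1 D sf := by
      rintro ⟨_ | _⟩ ⟨_ | _⟩
      · rfl
      · exact (map_zero _).trans (hzero _ inf_le_right (inf_le_left.trans inf_le_left)).symm
      · exact (hzero _ inf_le_left (inf_le_right.trans inf_le_left)).trans (map_zero _).symm
      · rfl
    obtain ⟨g, hg, -⟩ := TopCat.Sheaf.existsUnique_gluing' F D (iSup D) (fun b => homOfLE (le_iSup D b)) le_rfl sf hcompat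
    obtain ⟨b, hb⟩ := (AddCommGrpCat.epi_iff_surjective _).1
      (TopCat.Presheaf.IsFlasque.epi (F := F.obj) (homOfLE (iSup_le hDV : iSup D ≤ V)).op) g
    have hbD : ∀ c, F.obj.map (homOfLE (hDV c)).op b = sf c := fun c => by
      rw [← hg c, ← hb]
      exact (SuppFamLib.res_res F _ _ b).symm
    obtain ⟨a, ha⟩ := (range_incl U F V b).2 (hbD ⟨false⟩)
    refine ⟨a, incl_injective U F W ?_⟩
    refine (incl_res U F i.unop a).trans ?_
    rw [ha]
    exact hbD ⟨true⟩

end Groth.Agent.LocZ95

end
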