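import Groth.Agent.LocZ95.ClassNat
import Groth.Agent.LocZ95.Van
import Groth.Agent.LocZ95.Restr
import Groth.Agent.SiteBase.ExtByZero
import Groth.Agent.SiteBase.DerivedPrecomp

/-! `ℋ^{i+1}_Z` versus `R^i j_*` of the restriction. -/

set_option autoImplicit false
set_option linter.style.haveILetI false

universe u

open CategoryTheory CategoryTheory.Limits Opposite TopologicalSpace Abelian

noncomputable section

namespace Groth.Agent.LocZ95

variable {X : TopCat.{u}} (U : Opens X)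

local notation "JX" => Opens.grothendieckTopology X

/-- `V ↦ U ∩ V`, as an image. -/
abbrev img (V : Opens X) : Opens X :=
  U.isOpenEmbedding.isOpenMap.functor.obj ((Opens.map (CohCx.incl U)).obj V)

theorem img_le (V : Opens X) : img U V ≤ V := by rintro _ ⟨x, hx, rfl⟩; exact hx

theorem inf_le_img (V : Opens X) : U ⊓ V ≤ img U V := fun x hx => ⟨⟨x, hx.1⟩, hx.2, rfl⟩

theorem img_mono {A B : Opens X} (f : A ≤ B) : img U A ≤ img U B :=
  U.isOpenEmbedding.isOpenMap.functor.monotone ((Opens.map (CohCx.incl U)).monotone f)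

/-- The free sheaves on `U ∩ V`. -/
def Q : Opens X ⥤ CohTop.Ab X where
  obj V := CohCx.freeSheaf JX (img U V)
  map f := CohCx.freeSheafMap JX (homOfLE (img_mono U (leOfHom f)))
  map_id V := CohFree.freeSheafMap_id (J := JX) (img U V)
  map_comp f g := (CohFree.freeSheafMap_comp (J := JX) (homOfLE (img_mono U (leOfHom f))) (homOfLE (img_mono U (leOfHom g))))

/-- `j_*` of the restriction. -/
abbrev G : CohTop.Ab X ⥤ CohTop.Ab X := CohTop.restrFunctor U ⋙ CohTop.push (CohCx.incl U)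

/-- Sections of `j_*` of the restriction are represented by the `ℤ_{U∩V}`. -/
def presR : SiteBase.HomPres (Q U) (G U ⋙ sheafToPresheaf JX AddCommGrpCat.{u}) where
  σ F V := CohFree.homEquivSect JX (img U V) F
  σ_comp _ _ _ := rfl
  σ_map {F A B} f φ := CohFree.evalGen_freeSheafMap_comp JX (homOfLE (img_mono U (leOfHom f))) F φ

/-- Sheafifying the underlying presheaf changes nothing. -/
def sheafifyIsoR : G U ≅ (G U ⋙ sheafToPresheaf JX AddCommGrpCat.{u}) ⋙ presheafToSheaf JX AddCommGrpCat.{u} :=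
  (Functor.rightUnitor _).symm ≪≫ Functor.isoWhiskerLeft _ (asIso (sheafificationAdjunction JX AddCommGrpCat.{u}).counit).symm ≪≫
    (Functor.associator _ _ _).symm

/-- The presheaf `V ↦ H^q(U ∩ V, -)`. -/
abbrev QPre (q : ℕ) : CohTop.Ab X ⥤ (Opens X)ᵒᵖ ⥤ AddCommGrpCat.{u} := SiteBase.HomPres.extPsh (Q U) q

/-- The derived functors of `j_* j^*` are sheafified presheaves. -/
def RGIso (q : ℕ) : (G U).rightDerived q ≅ QPre U q ⋙ presheafToSheaf JX AddCommGrpCat.{u} :=
  SiteBase.rightDerivedCongr (sheafifyIsoR U) q ≪≫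
    SiteBase.rightDerivedCompIso (G U ⋙ sheafToPresheaf JX AddCommGrpCat.{u}) (presheafToSheaf JX AddCommGrpCat.{u}) q ≪≫
    Functor.isoWhiskerRight ((presR U).rightDerivedIso q) _

theorem zqMap_comm {A B : Opens X} (f : A ≤ B) :
    cokernel.π (CohCx.freeSheafMap JX (homOfLE (inter_le U A))) ≫
      LocCohZ.zqMap (inter_le U B) (inter_le U A) (inf_le_inf_left U f) f =
      CohCx.freeSheafMap JX (homOfLE f) ≫ cokernel.π (CohCx.freeSheafMap JX (homOfLE (inter_le U B))) :=
  cokernel.π_desc _ _ _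

theorem free_comm {A B C D : Opens X} (f₁ : A ⟶ B) (f₂ : B ⟶ D) (g₁ : A ⟶ C) (g₂ : C ⟶ D) :
    CohCx.freeSheafMap JX f₁ ≫ CohCx.freeSheafMap JX f₂ = CohCx.freeSheafMap JX g₁ ≫ CohCx.freeSheafMap JX g₂ := by
  rw [← CohFree.freeSheafMap_comp, ← CohFree.freeSheafMap_comp]
  rfl

/-- The morphism of the sequences `ℤ_{U∩V} ⟶ ℤ_V ⟶ ℤ_V/ℤ_{U∩V}`. -/
def seqMap {A B : Opens X} (f : A ≤ B) : LocCohZ.zqSeq (inter_le U A) ⟶ LocCohZ.zqSeq (inter_le U B) where
  τ₁ := CohCx.freeSheafMap JX (homOfLE (inf_le_inf_left U f))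
  τ₂ := CohCx.freeSheafMap JX (homOfLE f)
  τ₃ := LocCohZ.zqMap (inter_le U B) (inter_le U A) (inf_le_inf_left U f) f
  comm₁₂ := free_comm _ _ _ _
  comm₂₃ := (zqMap_comm U f).symm

/-- The class `H^i(U ∩ V, -) ⟶ H^{i+1}_{V∖U}(V, -)` as an Ext class. -/
def δclass (V : Opens X) : Ext ((P U).obj V) ((Q U).obj V) 1 :=
  (LocCohZ.zqSeq_shortExact (inter_le U V)).extClass.comp
    (Ext.mk₀ (CohCx.freeSheafMap JX (homOfLE (inf_le_img U V)))) (add_zero 1)

theorem δclass_natural {A B : Opens X} (f : A ⟶ B) :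
    (δclass U A).comp (Ext.mk₀ ((Q U).map f)) (add_zero 1) =
      (Ext.mk₀ ((P U).map f)).comp (δclass U B) (zero_add 1) := by
  have hn := ShortComplex.ShortExact.extClass_naturality (LocCohZ.zqSeq_shortExact (inter_le U A))
    (LocCohZ.zqSeq_shortExact (inter_le U B)) (seqMap U (leOfHom f))
  show ((LocCohZ.zqSeq_shortExact (inter_le U A)).extClass.comp
      (Ext.mk₀ (CohCx.freeSheafMap JX (homOfLE (inf_le_img U A)))) (add_zero 1)).comp
      (Ext.mk₀ (CohCx.freeSheafMap JX (homOfLE (img_mono U (leOfHom f))))) (add_zero 1) =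
    (Ext.mk₀ (LocCohZ.zqMap (inter_le U B) (inter_le U A) (inf_le_inf_left U (leOfHom f)) (leOfHom f))).comp
      ((LocCohZ.zqSeq_shortExact (inter_le U B)).extClass.comp
        (Ext.mk₀ (CohCx.freeSheafMap JX (homOfLE (inf_le_img U B)))) (add_zero 1)) (zero_add 1)
  refine Eq.trans ?_ (Ext.comp_assoc_of_third_deg_zero _ _ _ _)
  refine Eq.trans ?_ (congrArg (fun t : Ext (LocCohZ.zqSeq (inter_le U A)).X₃ (LocCohZ.zqSeq (inter_le U B)).X₁ 1 =>
    t.comp (Ext.mk₀ (CohCx.freeSheafMap JX (homOfLE (inf_le_img U B)))) (add_zero 1)) hn)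
  refine (Ext.comp_assoc_of_third_deg_zero _ _ _ _).trans ?_
  refine Eq.trans ?_ (Ext.comp_assoc_of_third_deg_zero _ _ _ _).symm
  refine congrArg (fun t => (LocCohZ.zqSeq_shortExact (inter_le U A)).extClass.comp t (add_zero 1)) ?_
  refine (Ext.mk₀_comp_mk₀ _ _).trans (Eq.trans ?_ (Ext.mk₀_comp_mk₀ _ _).symm)
  exact congrArg Ext.mk₀ (free_comm _ _ _ _)

/-- The connecting map of presheaves. -/
def δ (i : ℕ) : QPre U i ⟶ HPre U (i + 1) :=
  classNat (P U) (Q U) (δclass U) (fun f => δclass_natural U f) i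

theorem δ_apply (i : ℕ) (F : CohTop.Ab X) (V : Opens X) (z : CohTop.HU F i (img U V)) :
    (((δ U i).app F).app (op V)).hom z =
      LocCohZ.delta F i (inter_le U V) (CohTop.res F i (inf_le_img U V) z) :=
  (classNat_apply (P U) (Q U) (δclass U) (fun f => δclass_natural U f) i F (op V) z).trans <| Ext.comp_assoc (LocCohZ.zqSeq_shortExact (inter_le U V)).extClass
    (Ext.mk₀ (CohCx.freeSheafMap JX (homOfLE (inf_le_img U V)))) z (add_zero 1) (zero_add i) (by omega)

theorem res_res_HU (F : CohTop.Ab X) (i : ℕ) {A B C : Opens X} (f : B ≤ A) (g : C ≤ B) (y : CohTop.HU F i A) :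
    CohTop.res F i g (CohTop.res F i f y) = CohTop.res F i (g.trans f) y := by
  show (Ext.mk₀ (CohCx.freeSheafMap JX (homOfLE g))).comp
    ((Ext.mk₀ (CohCx.freeSheafMap JX (homOfLE f))).comp y (zero_add i)) (zero_add i) = _
  refine (Ext.mk₀_comp_mk₀_assoc _ _ _).trans ?_
  rw [← CohFree.freeSheafMap_comp]
  rfl

theorem res_self_HU (F : CohTop.Ab X) (i : ℕ) {A : Opens X} (y : CohTop.HU F i A) :
    CohTop.res F i (le_refl A) y = y := by
  show (Ext.mk₀ (CohCx.freeSheafMap JX (𝟙 A))).comp y (zero_add i) = y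
  rw [CohFree.freeSheafMap_id]
  exact Ext.mk₀_id_comp y

/-- The kernel of `δ`. -/
theorem exists_of_δ_eq_zero (i : ℕ) (F : CohTop.Ab X) (V : Opens X) (z : CohTop.HU F i (img U V))
    (hz : (((δ U i).app F).app (op V)).hom z = 0) : ∃ y, CohTop.res F i (img_le U V) y = z := by
  rw [δ_apply] at hz
  obtain ⟨y, hy⟩ := exists_of_delta_eq_zero F (inter_le U V) i _ hz
  refine ⟨y, ?_⟩
  have := congrArg (CohTop.res F i (show img U V ≤ U ⊓ V from le_inf (by rintro _ ⟨x, -, rfl⟩; exact x.2) (img_le U V))) hy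
  rw [res_res_HU, res_res_HU, res_self_HU] at this
  exact this

theorem δ_res (i : ℕ) (F : CohTop.Ab X) (V : Opens X) (y : CohTop.HU F i V) :
    (((δ U i).app F).app (op V)).hom (CohTop.res F i (img_le U V) y) = 0 := by
  rw [δ_apply, res_res_HU]
  exact delta_res F _ i y

theorem isLocallySurjective_δ (i : ℕ) (F : CohTop.Ab X) :
    Presheaf.IsLocallySurjective JX ((δ U i).app F) := by
  refine ⟨fun {V} s => ?_⟩
  obtain ⟨S, hS, hres⟩ := SiteBase.exists_cover_res_eq_zero F V i (LocCohZ.toHU F (i + 1) (inter_le U V) s)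
  refine GrothendieckTopology.superset_covering _ (fun W g hg => ?_) hS
  obtain ⟨z, hz⟩ := exists_of_toHU_eq_zero F (inter_le U W) i _
    ((resZ_toHU U F (i + 1) (leOfHom g) s).trans (hres W g hg))
  refine ⟨CohTop.res F i (show img U W ≤ U ⊓ W from le_inf (by rintro _ ⟨x, -, rfl⟩; exact x.2) (img_le U W)) z, ?_⟩
  refine (δ_apply U i F W _).trans ?_
  rw [res_res_HU, res_self_HU]
  exact hz

theorem isLocallyInjective_δ (i : ℕ) (F : CohTop.Ab X) :
    Presheaf.IsLocallyInjective JX ((δ U (i + 1)).app F) := by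
  refine ⟨fun {V} a b hab => ?_⟩
  obtain ⟨y, hy⟩ := exists_of_δ_eq_zero U (i + 1) F V.unop (a - b)
    ((map_sub (((δ U (i + 1)).app F).app V).hom a b).trans (sub_eq_zero.2 hab))
  obtain ⟨S, hS, hres⟩ := SiteBase.exists_cover_res_eq_zero F V.unop i y
  refine GrothendieckTopology.superset_covering _ (fun W g hg => ?_) hS
  show (((QPre U (i + 1)).obj F).map g.op).hom a = (((QPre U (i + 1)).obj F).map g.op).hom b
  refine sub_eq_zero.1 ((map_sub _ a b).symm.trans ?_)
  show CohTop.res F (i + 1) (img_mono U (leOfHom g)) (a - b) = 0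
  rw [← hy, res_res_HU, ← res_res_HU F (i + 1) (leOfHom g) (img_le U W),
    show CohTop.res F (i + 1) (leOfHom g) y = 0 from hres W g hg, map_zero]

/-- `ℋ^{i+2}_Z` is `R^{i+1}(j_* j^*)`. -/
def HZshSuccIso (i : ℕ) : LocCohZ.HZsh U (i + 2) ≅ (G U).rightDerived (i + 1) := by
  haveI : ∀ F, IsIso ((Functor.whiskerRight (δ U (i + 1)) (presheafToSheaf JX AddCommGrpCat.{u})).app F) := fun F => by
    haveI := isLocallySurjective_δ U (i + 1) F
    haveI := isLocallyInjective_δ U i F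
    show IsIso ((presheafToSheaf JX AddCommGrpCat.{u}).map ((δ U (i + 1)).app F))
    exact (GrothendieckTopology.W_iff (J := JX) (A := AddCommGrpCat.{u}) ((δ U (i + 1)).app F)).1
      (GrothendieckTopology.W_of_isLocallyBijective JX ((δ U (i + 1)).app F))
  haveI := NatIso.isIso_of_isIso_app (Functor.whiskerRight (δ U (i + 1)) (presheafToSheaf JX AddCommGrpCat.{u}))
  exact HZshIso U (i + 2) ≪≫
    (asIso (Functor.whiskerRight (δ U (i + 1)) (presheafToSheaf JX AddCommGrpCat.{u}))).symm ≪≫ (RGIso U (i + 1)).symm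

end Groth.Agent.LocZ95

end
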